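import Mathlib
import Cfsg.Agent.H404.K6.SporON
import Cfsg.Agent.H774.K0.Six
import Cfsg.Agent.H684.CoverCount_m3
import Cfsg.Agent.H61.K6.CritD_m3
import Cfsg.Agent.H166.K6.PsuDiag_m3
import Cfsg.Agent.H587.KB8.Cyc_m3
import Cfsg.Agent.H80.K6.Crit
import Cfsg.Agent.H90.R4.Prime_m3
import Cfsg.Agent.LFourA.AltPsiAut
import Cfsg.Agent.H596.Weil.Psu
import Cfsg.Agent.J3Type.CharTools
import Cfsg.Agent.H681.SimpleChar
import Cfsg.Agent.S0145
import Cfsg.Agent.Characters.Galois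
import Cfsg.Agent.Characters.GaloisIrr
import Cfsg.Agent.Characters.CentralCharacter
import Cfsg.Agent.Characters.DegreeBounds
import Cfsg.Agent.Blocks.ExistsModular
import Cfsg.Agent.CharactersDeep.ModCongr
import Cfsg.Agent.Characters.Counting
import Cfsg.Agent.Lib.PermCode
import Cfsg.Agent.H835.SylFive_m3
import Cfsg.Agent.H820.ElFi24
import Cfsg.Agent.S1688
import Cfsg.Agent.CpAutLy.Row
import Cfsg.Agent.H820.K6.ASix
import Cfsg.Agent.J2Type.FiveFus
import Cfsg.Agent.KFacts.J2.Facts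
import Cfsg.Agent.H221.DS.JTwoTen
import Cfsg.Agent.S2066
import Cfsg.Agent.Transfer.NormalPComplement
import Cfsg.Agent.FastGrp
import Cfsg.Agent.Prune
set_option linter.all false

section
prune_inst 0x7fbcebf9e9a88ddedfff7e3ff698cffc10c0cfffa6dffb4bffece19fefdf230219e563859de050ff0e36623410a87843fb7eeeffe06fd87ffffd1ff41ffbee4fe5f7310951d48c340fbc2ff703f0778a7f3fffffffffffffffffffffffffffbeffbfffffffff

-- part: H404/K6/Red
section
set_option linter.all false
open scoped Cfsg.Agent.FastGrp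

/-!
S4876, helper404: the reduction to almost simple groups.

* `CaseA p`: case A of the reduction (a minimal normal subgroup of index divisible by `p`), a theorem of helper703;
* `seven_of_rows`: `p` odd, `p² ∣ |G|` (`27 ∣ |G|` if `p = 3`), all simple groups satisfy `KRow`: `k(B₀(G)) ≥ 7`.
-/

set_option autoImplicit false
set_option linter.unusedSectionVars false

namespace Cfsg.Agent.H404.K6

open Cfsg Subgroup Cfsg.Agent.H61.K6

universe u

/-- Case A of the reduction: no minimal normal subgroup has index divisible by `p`. -/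
def CaseA (p : ℕ) : Prop :=
  ∀ (M : Ideal AlgInt), IsPModular p M → ∀ (G : Type u) [Group G] [Finite G],
    Nat.card (principalBlock M G) = 6 → pPrimeCore p G = ⊥ → p ^ 2 ∣ Nat.card G → (p = 3 → 27 ∣ Nat.card G) →
    ∀ (N : Subgroup G), N.Normal → (∀ K : Subgroup G, K.Normal → K ≤ N → K = ⊥ ∨ K = N) → N ≠ ⊥ → ¬ p ∣ N.index

variable {p : ℕ} [hpf : Fact p.Prime] {M : Ideal AlgInt}

theorem six_le_kB (hM : IsPModular p M) (hp2 : p ≠ 2) {G : Type u} [Group G] [Finite G] (h2 : p ^ 2 ∣ Nat.card G) :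
    6 ≤ Nat.card (principalBlock M G) := by
  refine (H774.K0.six_le_card hp2 hM h2).trans ?_
  have : Finite (IrrCharacter G) := Characters.Core.finite_irr
  exact Nat.card_le_card_of_injective (fun χ => (⟨χ.1, χ.2.1⟩ : principalBlock M G))
    fun a b h => Subtype.ext (congrArg (fun x : principalBlock M G => (x : IrrCharacter G)) h)

/-- `|P| ≥ 25` -/
theorem sylow_ge (hp2 : p ≠ 2) {G : Type u} [Group G] [Finite G] (h2 : p ^ 2 ∣ Nat.card G)
    (h3 : p = 3 → 27 ∣ Nat.card G) (P : Sylow p G) : 25 ≤ Nat.card P := by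
  by_cases hp3 : p = 3
  · subst hp3
    have h4 : 3 ^ 3 ∣ Nat.card P := P.pow_dvd_card_of_pow_dvd_card (h3 rfl)
    have := Nat.le_of_dvd Nat.card_pos h4
    omega
  · have h5 : 5 ≤ p := by
      have h6 := hpf.out.two_le
      by_contra hcon
      have h7 : p = 4 := by omega
      rw [h7] at hpf
      exact absurd hpf.out (by norm_num)
    have h4 : p ^ 2 ∣ Nat.card P := P.pow_dvd_card_of_pow_dvd_card h2
    have h6 := Nat.le_of_dvd Nat.card_pos h4
    nlinarith

/-- The almost simple conclusion. -/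
theorem almost_simple (hp2 : p ≠ 2) (hM : IsPModular p M) (hA : CaseA.{u} p) {G : Type u} [Group G] [Finite G]
    (hk : Nat.card (principalBlock M G) = 6) (hcore : pPrimeCore p G = ⊥) (h2 : p ^ 2 ∣ Nat.card G)
    (h3 : p = 3 → 27 ∣ Nat.card G) :
    ∃ S : Subgroup G, S.Normal ∧ IsSimpleGroup S ∧ (¬ ∀ x y : S, Commute x y) ∧
      centralizer (S : Set G) = ⊥ ∧ ¬ p ∣ S.index := by
  have hnt : Nontrivial G := by
    rw [← Finite.one_lt_card_iff_nontrivial]
    exact hpf.out.one_lt.trans_le (Nat.le_of_dvd Nat.card_pos ((dvd_pow_self p two_ne_zero).trans h2))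
  obtain ⟨N, hNn, hN, hmin⟩ := Lib.SubnormalJoin.exists_minimal_normal G
  have hcop := hA M hM G hk hcore h2 h3 N hNn hmin hN
  obtain ⟨h4, h5, h6⟩ := case_b hM (hpf.out.odd_of_ne_two hp2) hk hcore N hmin hN hcop (sylow_ge hp2 h2 h3)
  exact ⟨N, hNn, h4, h5, h6, hcop⟩

/-- **REDUCTION.** -/
theorem seven_of_rows (hp2 : p ≠ 2) (hM : IsPModular p M) (hA : CaseA.{u} p)
    (hrows : ∀ (S : Type u) [Group S] [Finite S], IsSimpleGroup S → (¬ ∀ x y : S, Commute x y) →
      p ^ 2 ∣ Nat.card S → (p = 3 → 27 ∣ Nat.card S) → KRow.{u, u} p S)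
    (G : Type u) [Group G] [Finite G] (h2 : p ^ 2 ∣ Nat.card G) (h3 : p = 3 → 27 ∣ Nat.card G) :
    7 ≤ Nat.card (principalBlock M G) := by
  obtain ⟨n, hn⟩ : ∃ n, Nat.card G = n := ⟨_, rfl⟩
  induction n using Nat.strong_induction_on generalizing G with
  | _ n ih =>
  subst hn
  by_contra hcon
  have hk : Nat.card (principalBlock M G) = 6 := by
    have := six_le_kB hM hp2 h2
    omega
  have hdvd : ∀ (K : Subgroup G) (m : ℕ), ¬ p ∣ Nat.card K → p ^ m ∣ Nat.card G → p ^ m ∣ K.index := by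
    intro K m hK hm
    rw [← K.card_mul_index] at hm
    exact (Nat.Coprime.pow_left m ((Nat.Prime.coprime_iff_not_dvd hpf.out).2 hK)).dvd_of_dvd_mul_left hm
  have hcore : pPrimeCore p G = ⊥ := by
    by_contra hne
    have hKn : (pPrimeCore p G).Normal := Lib.Cores.pPrimeCore_normal p
    have hKp : ¬ p ∣ Nat.card (pPrimeCore p G) :=
      (Nat.Prime.coprime_iff_not_dvd hpf.out).1 (Lib.Cores.pPrimeCore_coprime p).symm
    have h1 : Nat.card (G ⧸ pPrimeCore p G) < Nat.card G := by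
      rw [← index_eq_card, ← (pPrimeCore p G).card_mul_index]
      have h2 : 1 < Nat.card (pPrimeCore p G) := (one_lt_card_iff_ne_bot _).2 hne
      have h3 : 0 < (pPrimeCore p G).index := Nat.pos_of_ne_zero (pPrimeCore p G).index_ne_zero_of_finite
      nlinarith
    have h4 := ih _ h1 (G ⧸ pPrimeCore p G) (by rw [← index_eq_card]; exact hdvd _ 2 hKp h2)
      (by
        intro h5
        rw [← index_eq_card]
        have h6 := hdvd (pPrimeCore p G) 3 hKp (by rw [h5]; exact h3 h5)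
        rw [h5] at h6 ⊢
        exact h6) rfl
    have h5 := H684.BlockTools.card_le_of_surjective hM (QuotientGroup.mk' (pPrimeCore p G))
      (QuotientGroup.mk'_surjective _)
    omega
  obtain ⟨S, hSn, hS, hna, hC, hidx⟩ := almost_simple hp2 hM hA hk hcore h2 h3
  have hdS : ∀ m : ℕ, p ^ m ∣ Nat.card G → p ^ m ∣ Nat.card S := by
    intro m hm
    rw [← S.card_mul_index] at hm
    exact (Nat.Coprime.pow_left m ((Nat.Prime.coprime_iff_not_dvd hpf.out).2 hidx)).dvd_of_dvd_mul_right hm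
  have hrow := hrows S hS hna (hdS 2 h2) (by
    intro h5
    have h6 := hdS 3 (by rw [h5]; exact h3 h5)
    rw [h5] at h6
    exact h6)
  exact hcon (hrow M G S ⟨hM, hSn, ⟨MulEquiv.refl _⟩, hC, hidx⟩)

end Cfsg.Agent.H404.K6
end

-- part: H683/K6/OFour
section
prune_inst 0x3000610544221200001c000042003ee3f3000000000b0000000600000d898c4129008620b02001088800a8444038004811100139021000000a0004000119008088c102002010a000040009000084400000000000000000000000000000000000000000000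
set_option linter.all false
open scoped Cfsg.Agent.FastGrp

/-!
# `PΩ₈⁺(q)`, `5 ∣ q² + 1` (helper683, S4876)
-/

set_option autoImplicit false
set_option linter.unusedSectionVars false

open QuadraticMap Module Cfsg Cfsg.Agent.LieClassical.OrthCore Cfsg.Agent.LieClassical.OrthTrans
open Cfsg.Agent.H587.KB8 Cfsg.Agent.H587.KB8.Mdl Cfsg.Agent.H932 Cfsg.Agent.H61.K6
open Cfsg.Agent.ClassicalGeometry.OrthAut1
open Cfsg.Agent.H200.LinFix (Ordd)

universe u

namespace Cfsg.Agent.H683.K6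

theorem exists_of_pow_card {F K : Type*} [Field F] [Fintype F] [Field K] [Algebra F K] {t : K}
    (h : t ^ Fintype.card F = t) : ∃ a : F, algebraMap F K a = t := by
  classical
  by_contra hno
  push Not at hno
  have hq : 1 < Fintype.card F := Fintype.one_lt_card
  set P : Polynomial K := Polynomial.X ^ Fintype.card F - Polynomial.X with hP
  have hP0 : P ≠ 0 := FiniteField.X_pow_card_sub_X_ne_zero K hq
  let s : Finset K := insert t ((Finset.univ : Finset F).image (algebraMap F K))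
  have hs : ∀ x ∈ s, P.IsRoot x := by
    intro x hx
    rw [Polynomial.IsRoot, hP, Polynomial.eval_sub, Polynomial.eval_pow, Polynomial.eval_X, sub_eq_zero]
    rcases Finset.mem_insert.1 hx with rfl | hx
    · exact h
    · obtain ⟨n, -, rfl⟩ := Finset.mem_image.1 hx
      rw [← map_pow, FiniteField.pow_card]
  have h1 : s.card ≤ P.natDegree := by
    refine (Finset.card_le_card (t := P.roots.toFinset) fun x hx => ?_).trans
      ((Multiset.toFinset_card_le _).trans (Polynomial.card_roots' P))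
    rw [Multiset.mem_toFinset, Polynomial.mem_roots hP0]
    exact hs x hx
  have h2 : P.natDegree = Fintype.card F := FiniteField.X_pow_card_sub_X_natDegree_eq K hq
  have h3 : s.card = Fintype.card F + 1 := by
    rw [Finset.card_insert_of_notMem, Finset.card_image_of_injective _ (algebraMap F K).injective, Finset.card_univ]
    intro h
    obtain ⟨n, -, hn⟩ := Finset.mem_image.1 h
    exact hno n hn
  omega

section model

variable {F : Type} [Field F] [Fintype F] {K : Type} [Field K] [Finite K] [Algebra F K] [FiniteDimensional F K]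
  {Q : QuadraticForm F (Fin 4 ⊕ Fin 4 → F)} {Q₁ : QuadraticForm F K} {ψ : (K × K) ≃ₗ[F] (Fin 4 ⊕ Fin 4 → F)}

/-- `(v, w) ↦ (v, φ w)` -/
noncomputable def rho (ψ : (K × K) ≃ₗ[F] (Fin 4 ⊕ Fin 4 → F)) : (Fin 4 ⊕ Fin 4 → F) ≃ₗ[F] (Fin 4 ⊕ Fin 4 → F) :=
  cj ψ ((LinearEquiv.refl F K).prodCongr (fr F K).toLinearEquiv)

theorem rho_apply (w : K × K) : rho ψ (ψ w) = ψ (w.1, fr F K w.2) := by
  rw [rho, cj_apply]
  rfl

theorem rho_mem_O (h : Mdl (fr F K) Q Q₁ ψ) : rho ψ ∈ O Q := h.mem_O fun w => by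
  change Q₁ w.1 + Q₁ (fr F K w.2) = _
  rw [h.q_phi]

theorem rho_dg (a b : Kˣ) : rho ψ * cj ψ (dg (a, b)) = cj ψ (dg (a, b ^ Fintype.card F)) * rho ψ := by
  rw [rho, ← map_mul, ← map_mul]
  congr 1
  ext1 w
  refine Prod.ext rfl ?_
  change fr F K ((b : K) * w.2) = ((b ^ Fintype.card F : Kˣ) : K) * fr F K w.2
  rw [map_mul, fr_apply (b : K), Units.val_pow_eq_pow_val]

theorem sw_dg (a b : Kˣ) : cj ψ (sw F K) * cj ψ (dg (a, b)) = cj ψ (dg (b, a)) * cj ψ (sw F K) := by
  have h1 := sw_conj (ψ := ψ) (F := F) (a, b)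
  rw [mul_inv_eq_iff_eq_mul] at h1
  exact h1

theorem finrank_fx_rho (hK : finrank F K = 4) : finrank F (fx (rho ψ)) = 5 := by
  have h1 : fx (rho ψ) = LinearMap.range (ψ.toLinearMap ∘ₗ
      LinearMap.prodMap (LinearMap.id : K →ₗ[F] K) (Algebra.linearMap F K)) := by
    ext v
    obtain ⟨w, rfl⟩ := ψ.surjective v
    rw [mem_fx, rho_apply]
    constructor
    · intro h
      have h2 := congrArg Prod.snd (ψ.injective h)
      change fr F K w.2 = w.2 at h2
      rw [fr_apply] at h2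
      obtain ⟨a, ha⟩ := exists_of_pow_card h2
      refine ⟨(w.1, a), ?_⟩
      change ψ (w.1, algebraMap F K a) = ψ w
      rw [ha]
    · rintro ⟨u, hu⟩
      have hu' : ψ (u.1, algebraMap F K u.2) = ψ w := hu
      have h5 := ψ.injective hu'
      rw [← h5]
      change ψ (u.1, fr F K (algebraMap F K u.2)) = ψ (u.1, algebraMap F K u.2)
      rw [AlgEquiv.commutes]
  rw [h1, LinearMap.finrank_range_of_inj, Module.finrank_prod, hK, Module.finrank_self]
  intro u v huv
  have h5 : ψ (u.1, algebraMap F K u.2) = ψ (v.1, algebraMap F K v.2) := huv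
  have h6 := ψ.injective h5
  have h7 := Prod.ext_iff.1 h6
  exact Prod.ext h7.1 ((algebraMap F K).injective h7.2)

theorem sgn_rho (h : Mdl (fr F K) Q Q₁ ψ) (hQ : (polarBilin Q).Nondegenerate)
    (h4 : (∃ θ : F, θ ≠ 0 ∧ θ ≠ 1) ∨ Fintype.card (Fin 4 ⊕ Fin 4) ≠ 4) :
    sgn hQ h4 ⟨rho ψ, rho_mem_O h⟩ = -1 := by
  rw [sgn_eq]
  change (-1 : ℤˣ) ^ (finrank F (fx (rho ψ)) + Fintype.card (Fin 4 ⊕ Fin 4)) = -1
  rw [finrank_fx_rho h.dim]
  decide

theorem fix_dg {a b : Kˣ} (ha : a ≠ 1) (hb : b ≠ 1) {v : Fin 4 ⊕ Fin 4 → F} (hv : cj ψ (dg (a, b)) v = v) : v = 0 := by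
  obtain ⟨u, rfl⟩ := ψ.surjective v
  rw [cj_apply, dg_apply] at hv
  have h7 := ψ.injective hv
  have h8 : (a : K) * u.1 = u.1 := congrArg Prod.fst h7
  have h9 : (b : K) * u.2 = u.2 := congrArg Prod.snd h7
  have h10 : u.1 = 0 := by
    by_contra h0
    exact ha (Units.ext (mul_right_cancel₀ h0 (by rw [h8, Units.val_one, one_mul])))
  have h11 : u.2 = 0 := by
    by_contra h0
    exact hb (Units.ext (mul_right_cancel₀ h0 (by rw [h9, Units.val_one, one_mul])))
  have h12 : u = 0 := Prod.ext h10 h11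
  rw [h12, map_zero]

/-- the group of the `dg (a, b)`, `a, b ∈ ⟨z⟩` -/
def ZZ (z : Kˣ) : Subgroup (Kˣ × Kˣ) := (Subgroup.zpowers z).prod (Subgroup.zpowers z)

theorem card_ZZ (z : Kˣ) : Nat.card (ZZ z) = orderOf z * orderOf z := by
  rw [ZZ, Nat.card_congr (Subgroup.prodEquiv _ _).toEquiv, Nat.card_prod, Nat.card_zpowers]

theorem pow_ZZ {z : Kˣ} {n : ℕ} (hz : z ^ n = 1) {a : Kˣ × Kˣ} (ha : a ∈ ZZ z) : a ^ n = 1 := by
  have h1 : ∀ b ∈ Subgroup.zpowers z, b ^ n = 1 := by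
    rintro _ ⟨k, rfl⟩
    change (z ^ k) ^ n = 1
    rw [← zpow_natCast, ← zpow_mul, mul_comm, zpow_mul, zpow_natCast, hz, one_zpow]
  exact Prod.ext (h1 _ ha.1) (h1 _ ha.2)

theorem nm_ZZ {n : ℕ} (hn : n ∣ Fintype.card F ^ 2 + 1) {a : Kˣ} (ha : a ^ n = 1) :
    nm (fr F K) (a : K) = 1 := by
  obtain ⟨k, hk⟩ := hn
  rw [nm_eq, hk, ← Units.val_pow_eq_pow_val, pow_mul, ha, one_pow, Units.val_one]

theorem dg_mem (h : Mdl (fr F K) Q Q₁ ψ) {z : Kˣ} {n : ℕ} (hz : z ^ n = 1) (hodd : Odd n)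
    (hn : n ∣ Fintype.card F ^ 2 + 1) {a : Kˣ × Kˣ} (ha : a ∈ ZZ z) : cj ψ (dg a) ∈ E Q := by
  have h1 := pow_ZZ hz ha
  exact h.dg_mem_E (nm_ZZ hn (congrArg Prod.fst h1)) (nm_ZZ hn (congrArg Prod.snd h1)) hodd h1

/-- the embedding of `ZZ z` -/
noncomputable def ff (h : Mdl (fr F K) Q Q₁ ψ) {z : Kˣ} {n : ℕ} (hz : z ^ n = 1) (hodd : Odd n)
    (hn : n ∣ Fintype.card F ^ 2 + 1) : ZZ z →* ↥(E Q) :=
  ((cj ψ).comp ((dg (F := F) (K := K)).comp (ZZ z).subtype)).codRestrict (E Q) fun b => dg_mem h hz hodd hn b.2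

theorem ff_inj (h : Mdl (fr F K) Q Q₁ ψ) {z : Kˣ} {n : ℕ} (hz : z ^ n = 1) (hodd : Odd n)
    (hn : n ∣ Fintype.card F ^ 2 + 1) : Function.Injective (ff h hz hodd hn) := fun _ _ hab =>
  Subtype.ext (dg_injective (cj_injective ψ (congrArg Subtype.val hab)))

/-- **the three classes** -/
theorem triX (h : Mdl (fr F K) Q Q₁ ψ) (hsw : cj ψ (sw F K) ∈ E Q) {z : Kˣ} (hz : orderOf z = 5)
    (hn : 5 ∣ Fintype.card F ^ 2 + 1) : ∃ (A : Subgroup ↥(E Q)) (x y c : Fin 3 → ↥(E Q)) (u : Fin 5 → ↥(E Q)),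
      TriX A x y c u := by
  classical
  have hp : Fact (Nat.Prime 5) := ⟨by norm_num⟩
  have hodd : Odd 5 := by decide
  have hz5 : z ^ 5 = 1 := by rw [← hz, pow_orderOf_eq_one]
  have hz1 : z ≠ 1 := by
    rintro rfl
    rw [orderOf_one] at hz
    norm_num at hz
  obtain ⟨hord, ho4⟩ := ordd_four (p := 5) (by norm_num) hn
  have hord' : Ordd 5 (Nat.card F) 4 := by rw [Nat.card_eq_fintype_card]; exact hord
  have hQn : (polarBilin Q).Nondegenerate := nondegenerate_of_nondeg h.good.nondeg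
  have h4' : (∃ θ : F, θ ≠ 0 ∧ θ ≠ 1) ∨ Fintype.card (Fin 4 ⊕ Fin 4) ≠ 4 := Or.inr (by decide)
  have hfinV : Finite ((Fin 4 ⊕ Fin 4 → F) ≃ₗ[F] (Fin 4 ⊕ Fin 4 → F)) :=
    Finite.of_injective (fun g : (Fin 4 ⊕ Fin 4 → F) ≃ₗ[F] (Fin 4 ⊕ Fin 4 → F) =>
      (g : (Fin 4 ⊕ Fin 4 → F) → (Fin 4 ⊕ Fin 4 → F))) DFunLike.coe_injective
  set q := Fintype.card F with hq
  set f := ff h hz5 hodd hn with hf
  have hfi := ff_inj h hz5 hodd hn
  -- the powers `z ^ (q ^ i)`
  have hzm : ∀ k : ℕ, z ^ k ∈ Subgroup.zpowers z := fun k => ⟨k, by simp⟩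
  have hmem : ∀ k l : ℕ, (z ^ k, z ^ l) ∈ ZZ z := fun k l => ⟨hzm k, hzm l⟩
  have hqp : ∀ i j : ℕ, i < 4 → j < 4 → z ^ (q ^ i) = z ^ (q ^ j) → i = j := by
    intro i j hi hj hij
    rw [pow_eq_pow_iff_modEq, hz] at hij
    have h1 : ((q ^ i : ℕ) : ZMod 5) = ((q ^ j : ℕ) : ZMod 5) := (ZMod.natCast_eq_natCast_iff _ _ _).2 hij
    push_cast at h1
    have hq0 : ((q : ℕ) : ZMod 5) ≠ 0 := by
      intro h0
      rw [h0, orderOf_zero] at ho4
      exact absurd ho4 (by norm_num)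
    have h1' : (Units.mk0 ((q : ℕ) : ZMod 5) hq0) ^ i = (Units.mk0 ((q : ℕ) : ZMod 5) hq0) ^ j :=
      Units.ext (by rw [Units.val_pow_eq_pow_val, Units.val_pow_eq_pow_val, Units.val_mk0, h1])
    have h2 := pow_inj_mod.1 h1'
    have h3 : orderOf (Units.mk0 ((q : ℕ) : ZMod 5) hq0) = 4 := by
      rw [← orderOf_units, Units.val_mk0, ho4]
    rw [h3] at h2
    rwa [Nat.mod_eq_of_lt hi, Nat.mod_eq_of_lt hj] at h2
  have hq1 : ∀ i : ℕ, z ^ (q ^ i) ≠ 1 := by
    intro i h1
    have h2 : 5 ∣ q ^ i := by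
      rw [← hz]
      exact orderOf_dvd_of_pow_eq_one h1
    have h3 : 5 ∣ q := hp.out.dvd_of_dvd_pow h2
    have h5 : 5 ∣ q ^ 2 := dvd_pow h3 two_ne_zero
    have := (Nat.dvd_add_right h5).1 hn
    omega
  -- the elements
  let D : ℕ → ℕ → ↥(E Q) := fun k l => f ⟨(z ^ k, z ^ l), hmem k l⟩
  have hDv : ∀ k l, (D k l).1 = cj ψ (dg (z ^ k, z ^ l)) := fun k l => rfl
  have hDi : ∀ k l k' l', D k l = D k' l' → z ^ k = z ^ k' ∧ z ^ l = z ^ l' := by
    intro k l k' l' hk
    have h1 := congrArg Subtype.val (hfi hk)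
    exact Prod.ext_iff.1 h1
  have hD5 : ∀ k l, D k l ^ 5 = 1 := fun k l => by
    change f ⟨(z ^ k, z ^ l), hmem k l⟩ ^ 5 = 1
    rw [← map_pow]
    have : (⟨(z ^ k, z ^ l), hmem k l⟩ : ZZ z) ^ 5 = 1 := Subtype.ext (pow_ZZ hz5 (hmem k l))
    rw [this, map_one]
  have hD1 : ∀ k l, z ^ k ≠ 1 ∨ z ^ l ≠ 1 → D k l ≠ 1 := by
    intro k l hk h1
    have h2 : (⟨(z ^ k, z ^ l), hmem k l⟩ : ZZ z) = 1 := hfi (by rw [map_one]; exact h1)
    have h3 := Prod.ext_iff.1 (congrArg Subtype.val h2)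
    rcases hk with hk | hk
    · exact hk h3.1
    · exact hk h3.2
  have hDinv : ∀ k l, (D k l)⁻¹ = D (4 * k) (4 * l) := by
    intro k l
    change (f ⟨(z ^ k, z ^ l), hmem k l⟩)⁻¹ = f ⟨(z ^ (4 * k), z ^ (4 * l)), hmem _ _⟩
    rw [← map_inv]
    congr 1
    apply Subtype.ext
    have h1 : ∀ m : ℕ, (z ^ m)⁻¹ = z ^ (4 * m) := by
      intro m
      rw [inv_eq_iff_mul_eq_one, ← pow_add, show m + 4 * m = 5 * m by ring, pow_mul, hz5, one_pow]
    exact Prod.ext (h1 k) (h1 l)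
  set R := rho ψ with hR
  set W := cj ψ (sw F K) with hW
  have hRO : R ∈ O Q := rho_mem_O h
  have hWO : W ∈ O Q := h.sw_mem_O
  have hRD : ∀ k l : ℕ, R * cj ψ (dg (z ^ k, z ^ l)) = cj ψ (dg (z ^ k, z ^ (q * l))) * R := by
    intro k l
    rw [hR, rho_dg, ← pow_mul, mul_comm l]
  have hWD : ∀ k l : ℕ, W * cj ψ (dg (z ^ k, z ^ l)) = cj ψ (dg (z ^ l, z ^ k)) * W := fun k l => sw_dg _ _
  -- `c₀ = ρ²`
  have hRR : R * R ∈ E Q := sq_mem_E h.good hRO
  have hRWR : R * W * R⁻¹ ∈ E Q := conj_mem_E hRO hsw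
  have hPhi : R * (W * R * W⁻¹) ∈ E Q := mul_conj_mem_E h.good hRO hWO
  have hzq : z ^ (q * q) = z⁻¹ := by
    rw [eq_inv_iff_mul_eq_one, ← pow_succ]
    obtain ⟨k, hk⟩ := hn
    have : q * q + 1 = 5 * k := by rw [← hk]; ring
    rw [this, pow_mul, hz5, one_pow]
  have hRRD : ∀ k l : ℕ, R * R * cj ψ (dg (z ^ k, z ^ l)) = cj ψ (dg (z ^ k, z ^ (4 * l))) * (R * R) := by
    intro k l
    rw [mul_assoc, hRD, ← mul_assoc, hRD, mul_assoc]
    congr 3
    have h1 : z ^ (q * (q * l)) = z ^ (4 * l) := by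
      rw [← mul_assoc, pow_mul, hzq, pow_mul]
      congr 1
      rw [inv_eq_iff_mul_eq_one, ← pow_succ', hz5]
    rw [h1]
  -- `R` normalizes the group of the `dg (a, b)`
  let B : Subgroup ((Fin 4 ⊕ Fin 4 → F) ≃ₗ[F] (Fin 4 ⊕ Fin 4 → F)) :=
    ((cj ψ).comp ((dg (F := F) (K := K)).comp (ZZ z).subtype)).range
  have hBm : ∀ k l : ℕ, cj ψ (dg (z ^ k, z ^ l)) ∈ B := fun k l => ⟨⟨(z ^ k, z ^ l), hmem k l⟩, rfl⟩
  have hBe : ∀ b ∈ B, ∃ k l : ℕ, b = cj ψ (dg (z ^ k, z ^ l)) := by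
    rintro _ ⟨⟨⟨a, b⟩, ha, hb⟩, rfl⟩
    obtain ⟨k, hk⟩ := (mem_powers_iff_mem_zpowers.2 ha : a ∈ Submonoid.powers z)
    obtain ⟨l, hl⟩ := (mem_powers_iff_mem_zpowers.2 hb : b ∈ Submonoid.powers z)
    have hk' : z ^ k = a := hk
    have hl' : z ^ l = b := hl
    exact ⟨k, l, by rw [hk', hl']; rfl⟩
  have hRB : R ∈ Subgroup.normalizer (B : Set ((Fin 4 ⊕ Fin 4 → F) ≃ₗ[F] (Fin 4 ⊕ Fin 4 → F))) := by
    apply mem_normalizer_of_conj
    intro b hb
    obtain ⟨k, l, rfl⟩ := hBe b hb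
    rw [hRD, mul_inv_cancel_right]
    exact hBm _ _
  have hWB : W ∈ Subgroup.normalizer (B : Set ((Fin 4 ⊕ Fin 4 → F) ≃ₗ[F] (Fin 4 ⊕ Fin 4 → F))) := by
    apply mem_normalizer_of_conj
    intro b hb
    obtain ⟨k, l, rfl⟩ := hBe b hb
    rw [hWD, mul_inv_cancel_right]
    exact hBm _ _
  have hRange : ∀ e : ↥(E Q), e ∈ f.range ↔ e.1 ∈ B := by
    intro e
    constructor
    · rintro ⟨a, rfl⟩
      exact ⟨a, rfl⟩
    · rintro ⟨a, ha⟩
      exact ⟨a, Subtype.ext ha⟩
  let c : Fin 3 → ↥(E Q) := ![⟨R * R, hRR⟩, ⟨W, hsw⟩, ⟨R * W * R⁻¹, hRWR⟩]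
  have hcB : ∀ i, (c i).1 ∈ Subgroup.normalizer (B : Set ((Fin 4 ⊕ Fin 4 → F) ≃ₗ[F] (Fin 4 ⊕ Fin 4 → F))) := by
    intro i
    fin_cases i
    · exact Subgroup.mul_mem _ hRB hRB
    · exact hWB
    · exact Subgroup.mul_mem _ (Subgroup.mul_mem _ hRB hWB) (Subgroup.inv_mem _ hRB)
  have hPhiD : ∀ k : ℕ, R * (W * R * W⁻¹) * cj ψ (dg (z ^ k, 1)) = cj ψ (dg (z ^ (q * k), 1)) * (R * (W * R * W⁻¹)) := by
    intro k
    have h1 : ∀ k l : ℕ, W⁻¹ * cj ψ (dg (z ^ k, z ^ l)) = cj ψ (dg (z ^ l, z ^ k)) * W⁻¹ := by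
      intro k l
      rw [inv_mul_eq_iff_eq_mul, ← mul_assoc, hWD, mul_inv_cancel_right]
    have e1 : cj ψ (dg (z ^ k, (1 : Kˣ))) = cj ψ (dg (z ^ k, z ^ 0)) := by rw [pow_zero]
    have e2 : cj ψ (dg (z ^ (q * k), (1 : Kˣ))) = cj ψ (dg (z ^ (q * k), z ^ (q * 0))) := by rw [mul_zero, pow_zero]
    rw [e1, e2]
    calc R * (W * R * W⁻¹) * cj ψ (dg (z ^ k, z ^ 0)) = R * W * R * (W⁻¹ * cj ψ (dg (z ^ k, z ^ 0))) := by group
      _ = R * W * (R * cj ψ (dg (z ^ 0, z ^ k))) * W⁻¹ := by rw [h1]; group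
      _ = R * (W * cj ψ (dg (z ^ 0, z ^ (q * k)))) * R * W⁻¹ := by rw [hRD]; group
      _ = (R * cj ψ (dg (z ^ (q * k), z ^ 0))) * W * R * W⁻¹ := by rw [hWD]; group
      _ = cj ψ (dg (z ^ (q * k), z ^ (q * 0))) * (R * (W * R * W⁻¹)) := by rw [hRD]; group
  have hconj : ∀ (e : (Fin 4 ⊕ Fin 4 → F) ≃ₗ[F] (Fin 4 ⊕ Fin 4 → F)) (he : e ∈ E Q) (a b : ↥(E Q)),
      e * a.1 = b.1 * e → IsConj a b := by
    intro e he a b hab
    rw [isConj_iff]
    refine ⟨⟨e, he⟩, Subtype.ext ?_⟩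
    change e * a.1 * e⁻¹ = b.1
    rw [hab, mul_inv_cancel_right]
  have hz0 : (1 : Kˣ) = z ^ 0 := (pow_zero z).symm
  -- the conjugates of `x 0`
  have hPhi' : ∀ k : ℕ, IsConj (D k 0) (D (q * k) 0) := by
    intro k
    refine hconj _ hPhi _ _ ?_
    have h1 := hPhiD k
    rw [hz0] at h1
    exact h1
  refine ⟨f.range, ![D 1 0, D 1 1, D 1 q], ![D 0 1, D 1 4, D 1 (q * 4)], c,
    ![D 1 0, D q 0, D (q ^ 2) 0, D (q ^ 3) 0, D 0 1], ?_⟩
  refine
    { card := ?_, el := ?_, xA := ?_, x1 := ?_, yA := ?_, y1 := ?_, hN := ?_, hx := ?_, hy := ?_, conj := ?_,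
      uA := ?_, u_inj := ?_, ux := ?_, h4 := ?_ }
  · rw [← Nat.card_congr (MonoidHom.ofInjective hfi).toEquiv, card_ZZ, hz]
    norm_num
  · rintro _ ⟨a, rfl⟩
    rw [← map_pow]
    have : a ^ 5 = 1 := Subtype.ext (pow_ZZ hz5 a.2)
    rw [this, map_one]
  · intro i
    fin_cases i <;> exact ⟨_, rfl⟩
  · intro i
    fin_cases i
    · exact hD1 1 0 (Or.inl (by rw [pow_one]; exact hz1))
    · exact hD1 1 1 (Or.inl (by rw [pow_one]; exact hz1))
    · exact hD1 1 q (Or.inl (by rw [pow_one]; exact hz1))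
  · intro i
    fin_cases i <;> exact ⟨_, rfl⟩
  · intro i
    fin_cases i
    · exact hD1 0 1 (Or.inr (by rw [pow_one]; exact hz1))
    · exact hD1 1 4 (Or.inl (by rw [pow_one]; exact hz1))
    · exact hD1 1 (q * 4) (Or.inl (by rw [pow_one]; exact hz1))
  · intro i a ha
    rw [hRange] at ha ⊢
    exact (Subgroup.mem_normalizer_iff.1 (hcB i) a.1).1 ha
  · intro i
    fin_cases i
    · apply Subtype.ext
      change R * R * cj ψ (dg (z ^ 1, z ^ 0)) = cj ψ (dg (z ^ 1, z ^ 0)) * (R * R)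
      rw [hRRD, mul_zero]
    · apply Subtype.ext
      change W * cj ψ (dg (z ^ 1, z ^ 1)) = cj ψ (dg (z ^ 1, z ^ 1)) * W
      rw [hWD]
    · apply Subtype.ext
      change R * W * R⁻¹ * cj ψ (dg (z ^ 1, z ^ q)) = cj ψ (dg (z ^ 1, z ^ q)) * (R * W * R⁻¹)
      have h1 : cj ψ (dg (z ^ 1, z ^ q)) = R * cj ψ (dg (z ^ 1, z ^ 1)) * R⁻¹ := by
        rw [hRD, mul_inv_cancel_right, mul_one]
      rw [h1]
      calc R * W * R⁻¹ * (R * cj ψ (dg (z ^ 1, z ^ 1)) * R⁻¹) = R * (W * cj ψ (dg (z ^ 1, z ^ 1))) * R⁻¹ := by group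
        _ = R * (cj ψ (dg (z ^ 1, z ^ 1)) * W) * R⁻¹ := by rw [hWD]
        _ = R * cj ψ (dg (z ^ 1, z ^ 1)) * R⁻¹ * (R * W * R⁻¹) := by group
  · intro i
    fin_cases i
    · apply Subtype.ext
      change R * R * cj ψ (dg (z ^ 0, z ^ 1)) = (D 0 1)⁻¹.1 * (R * R)
      rw [hDinv, hRRD, hDv, mul_zero]
    · apply Subtype.ext
      change W * cj ψ (dg (z ^ 1, z ^ 4)) = (D 1 4)⁻¹.1 * W
      rw [hDinv, hWD, hDv]
      congr 4
      have : z ^ (4 * 4) = z ^ 1 := by rw [show 4 * 4 = 5 * 3 + 1 from rfl, pow_add, pow_mul, hz5, one_pow, one_mul]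
      rw [this]
    · apply Subtype.ext
      change R * W * R⁻¹ * cj ψ (dg (z ^ 1, z ^ (q * 4))) = (D 1 (q * 4))⁻¹.1 * (R * W * R⁻¹)
      have h1 : cj ψ (dg (z ^ 1, z ^ (q * 4))) = R * cj ψ (dg (z ^ 1, z ^ 4)) * R⁻¹ := by
        rw [hRD, mul_inv_cancel_right]
      have h2 : (D 1 (q * 4))⁻¹.1 = R * cj ψ (dg (z ^ 4, z ^ 1)) * R⁻¹ := by
        rw [hDinv, hDv, hRD, mul_inv_cancel_right]
        have : z ^ (4 * (q * 4)) = z ^ (q * 1) := by
          rw [show 4 * (q * 4) = 5 * (3 * q) + q * 1 by ring, pow_add, pow_mul, hz5, one_pow, one_mul]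
        rw [this]
      rw [h1, h2]
      calc R * W * R⁻¹ * (R * cj ψ (dg (z ^ 1, z ^ 4)) * R⁻¹) = R * (W * cj ψ (dg (z ^ 1, z ^ 4))) * R⁻¹ := by group
        _ = R * (cj ψ (dg (z ^ 4, z ^ 1)) * W) * R⁻¹ := by rw [hWD]
        _ = R * cj ψ (dg (z ^ 4, z ^ 1)) * R⁻¹ * (R * W * R⁻¹) := by group
  · -- not conjugate
    have hzq1 : z ^ q ≠ 1 := by
      have := hq1 1
      rwa [pow_one] at this
    have h0 : ∀ l : ℕ, z ^ l ≠ 1 → ¬ IsConj (D 1 0) (D 1 l) := by
      intro l hl hc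
      obtain ⟨e, he⟩ := isConj_iff.1 hc
      have h1 : e.1 * cj ψ (dg (z ^ 1, z ^ 0)) * e.1⁻¹ = cj ψ (dg (z ^ 1, z ^ l)) := congrArg Subtype.val he
      rw [mul_inv_eq_iff_eq_mul] at h1
      have h2 : cj ψ (dg (z ^ 1, z ^ 0)) (ψ ((0 : K), (1 : K))) = ψ ((0 : K), (1 : K)) := by
        rw [cj_apply, dg_apply, pow_zero]
        simp
      have h3 : cj ψ (dg (z ^ 1, z ^ l)) (e.1 (ψ ((0 : K), (1 : K)))) = e.1 (ψ ((0 : K), (1 : K))) := by
        have h5 := DFunLike.congr_fun h1 (ψ ((0 : K), (1 : K)))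
        change e.1 (cj ψ (dg (z ^ 1, z ^ 0)) (ψ ((0 : K), (1 : K)))) =
          cj ψ (dg (z ^ 1, z ^ l)) (e.1 (ψ ((0 : K), (1 : K)))) at h5
        rw [h2] at h5
        exact h5.symm
      have h6 := fix_dg (by rw [pow_one]; exact hz1) hl h3
      rw [LinearEquiv.map_eq_zero_iff, LinearEquiv.map_eq_zero_iff] at h6
      exact one_ne_zero (Prod.ext_iff.1 h6).2
    have h12 : ¬ IsConj (D 1 1) (D 1 q) := by
      intro hc
      obtain ⟨e, he⟩ := isConj_iff.1 hc
      have h1 : e.1 * cj ψ (dg (z ^ 1, z ^ 1)) * e.1⁻¹ = cj ψ (dg (z ^ 1, z ^ q)) := congrArg Subtype.val he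
      have h2 : cj ψ (dg (z ^ 1, z ^ q)) = R * cj ψ (dg (z ^ 1, z ^ 1)) * R⁻¹ := by
        rw [hRD, mul_inv_cancel_right, mul_one]
      rw [h2] at h1
      have hk : R⁻¹ * e.1 ∈ O Q := (O Q).mul_mem ((O Q).inv_mem hRO) (E_le_O e.2)
      have ha5 : ((z ^ 1, z ^ 1) : Kˣ × Kˣ) ^ 5 = 1 := pow_ZZ hz5 (hmem 1 1)
      have h5 := h.sgn_of_comm hord' hQn h4' (by decide) ha5 (by rw [pow_one]; exact hz1) (by rw [pow_one]; exact hz1)
        hk (by
          calc R⁻¹ * e.1 * cj ψ (dg (z ^ 1, z ^ 1)) = R⁻¹ * (e.1 * cj ψ (dg (z ^ 1, z ^ 1)) * e.1⁻¹) * e.1 := by group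
            _ = R⁻¹ * (R * cj ψ (dg (z ^ 1, z ^ 1)) * R⁻¹) * e.1 := by rw [h1]
            _ = cj ψ (dg (z ^ 1, z ^ 1)) * (R⁻¹ * e.1) := by group)
      have h6 : (⟨R⁻¹ * e.1, hk⟩ : O Q) = (⟨R, hRO⟩ : O Q)⁻¹ * ⟨e.1, E_le_O e.2⟩ := rfl
      have h7 : sgn hQn h4' ⟨R, hRO⟩ = -1 := sgn_rho h hQn h4'
      rw [h6, map_mul, map_inv, h7, sgn_E hQn h4' h.good ⟨e.1, E_le_O e.2⟩ e.2] at h5
      exact absurd h5 (by decide)
    intro i j hij
    fin_cases i <;> fin_cases j
    · rfl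
    · exact absurd hij (h0 1 (by rw [pow_one]; exact hz1))
    · exact absurd hij (h0 q hzq1)
    · exact absurd hij.symm (h0 1 (by rw [pow_one]; exact hz1))
    · rfl
    · exact absurd hij h12
    · exact absurd hij.symm (h0 q hzq1)
    · exact absurd hij.symm h12
    · rfl
  · intro i
    fin_cases i <;> exact ⟨_, rfl⟩
  · -- injectivity
    have hu : ∀ i : Fin 5, (![D 1 0, D q 0, D (q ^ 2) 0, D (q ^ 3) 0, D 0 1] : Fin 5 → ↥(E Q)) i =
        if (i : ℕ) < 4 then D (q ^ (i : ℕ)) 0 else D 0 1 := by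
      intro i
      fin_cases i
      · change D 1 0 = D (q ^ 0) 0
        rw [pow_zero]
      · change D q 0 = D (q ^ 1) 0
        rw [pow_one]
      · rfl
      · rfl
      · rfl
    intro i j hij
    rw [hu, hu] at hij
    by_cases hi : (i : ℕ) < 4 <;> by_cases hj : (j : ℕ) < 4
    · rw [if_pos hi, if_pos hj] at hij
      exact Fin.ext (hqp _ _ hi hj (hDi _ _ _ _ hij).1)
    · rw [if_pos hi, if_neg hj] at hij
      exact absurd ((hDi _ _ _ _ hij).1.trans (pow_zero z)) (hq1 _)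
    · rw [if_neg hi, if_pos hj] at hij
      exact absurd ((hDi _ _ _ _ hij).1.symm.trans (pow_zero z)) (hq1 _)
    · have h1 := i.2
      have h2 := j.2
      exact Fin.ext (by omega)
  · intro i
    have h1 : IsConj (D 1 0) (D q 0) := by
      have := hPhi' 1
      rwa [mul_one] at this
    have h2 : IsConj (D q 0) (D (q ^ 2) 0) := by
      have := hPhi' q
      rwa [← pow_two] at this
    have h3 : IsConj (D (q ^ 2) 0) (D (q ^ 3) 0) := by
      have := hPhi' (q ^ 2)
      rwa [← pow_succ'] at this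
    fin_cases i
    · exact IsConj.refl _
    · exact h1
    · exact h1.trans h2
    · exact (h1.trans h2).trans h3
    · exact hconj W hsw _ _ (hWD 1 0)
  · apply Subtype.ext
    change (R * R) ^ 4 = 1
    have h1 : R * R = cA (fr F K) ψ := by
      rw [hR, rho, ← map_mul, cA]
      rfl
    rw [h1]
    exact h.cA_sq

end model

end Cfsg.Agent.H683.K6

private theorem dce_f4138bb048a5 : _root_.True := by
  try have : _root_.True := by simp only [_root_.Cfsg.Agent.H683.K6.rho.eq_1]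
  try have : _root_.True := by simp only [_root_.Cfsg.Agent.H683.K6.ZZ.eq_1]
  exact _root_.True.intro
end

-- part: H683/K6/OFourRow
section
prune_inst 0x431406165162202000004000252001ef3b3000490000b0001016600000d808e210980a620b890000c89c082a55078000811000039020000000a000400411901a088c04200b318ad0414008f808004400000000000000000000000000000000000000000000
set_option linter.all false
open scoped Cfsg.Agent.FastGrp

/-!
# S4876: the row `PΩ₈⁺(q)`, `p ∤ q² - 1` (helper683)
-/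

set_option autoImplicit false
set_option linter.unusedSectionVars false

open QuadraticMap Module Cfsg Cfsg.Agent.LieClassical.OrthCore Cfsg.Agent.LieClassical.OrthTrans
open Cfsg.Agent.LieClassical.OrthFinite
open Cfsg.Agent.H587.KB8 Cfsg.Agent.H932 Cfsg.Agent.H61.K6 Cfsg.Agent.H436 Cfsg.Agent.OrdDiv
open Cfsg.Agent.ClassicalGeometry.OrthAut1 Cfsg.Agent.H200.LinFix

universe u

namespace Cfsg.Agent.H683.K6

/-- **cyclic Sylow subgroups** (`Cfsg.Agent.H587.KB8.cyclic_P` for all odd `p`) -/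
theorem cyclic_P' {F : Type} [Field F] [Fintype F] {p : ℕ} [hp : Fact p.Prime] (hp2 : p ≠ 2) (hpF : (p : F) ≠ 0)
    (hno : ¬ p ∣ Fintype.card F ^ 4 - 1) :
    ∃ S : Sylow p (P (LieClassical.QuadForms.plusForm 4 F)),
      IsCyclic (S : Subgroup (P (LieClassical.QuadForms.plusForm 4 F))) := by
  have hpp : p.Prime := hp.out
  have hp1 := hpp.two_le
  have hG : _root_.Cfsg.Agent.LieClassical.OrthTrans.Good (LieClassical.QuadForms.plusForm 4 F) := Cfsg.Agent.AutOrth.Main.good_plus (by norm_num)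
  have hfinV : Finite ((Fin 4 ⊕ Fin 4 → F) ≃ₗ[F] (Fin 4 ⊕ Fin 4 → F)) :=
    Finite.of_injective (fun g : (Fin 4 ⊕ Fin 4 → F) ≃ₗ[F] (Fin 4 ⊕ Fin 4 → F) =>
      (g : (Fin 4 ⊕ Fin 4 → F) → (Fin 4 ⊕ Fin 4 → F))) DFunLike.coe_injective
  have hpq : ¬ p ∣ Fintype.card F := by
    obtain ⟨r, hch, n, hr, hc⟩ := FiniteField.card' F
    rw [hc]
    intro h
    apply hpF
    rw [(Nat.prime_dvd_prime_iff_eq hpp hr).1 (hpp.dvd_of_dvd_pow h)]
    exact CharP.cast_eq_zero F r
  set d := orderOf ((Fintype.card F : ℕ) : ZMod p) with hd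
  have hdvd : ∀ m : ℕ, p ∣ Fintype.card F ^ m - 1 ↔ d ∣ m := by
    intro m
    rw [hd, orderOf_dvd_iff_pow_eq_one, ← Nat.cast_pow, ← Nat.cast_one (R := ZMod p), ZMod.natCast_eq_natCast_iff,
      Nat.ModEq.comm, Nat.modEq_iff_dvd' (Nat.one_le_pow _ _ Fintype.card_pos)]
  have hOrd : Ordd p (Nat.card F) d := fun m hm => (hdvd m).1 (by rwa [← Nat.card_eq_fintype_card])
  have hd0 : 0 < d := by
    rw [hd, orderOf_pos_iff]
    have h0 : ((Fintype.card F : ℕ) : ZMod p) ≠ 0 := by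
      rw [Ne, ZMod.natCast_eq_zero_iff]; exact hpq
    exact isOfFinOrder_iff_pow_eq_one.2 ⟨p - 1, by omega, ZMod.pow_card_sub_one_eq_one h0⟩
  have hd4 : ¬ d ∣ 4 := fun h => hno ((hdvd 4).2 h)
  have hd35 : d = 3 ∨ 5 ≤ d := by
    by_contra h
    push Not at h
    have h1 : d ≤ 4 := by omega
    have h2 := h.1
    clear_value d
    interval_cases d
    · exact hd4 (by norm_num)
    · exact hd4 (by norm_num)
    · exact h2 rfl
    · exact hd4 (by norm_num)
  have hfr : finrank F (Fin 4 ⊕ Fin 4 → F) = 8 := by simp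
  obtain ⟨S₁⟩ : Nonempty (Sylow p ↥(E (LieClassical.QuadForms.plusForm 4 F))) := inferInstance
  let ρ : ↥(S₁ : Subgroup ↥(E (LieClassical.QuadForms.plusForm 4 F))) →* Module.End F (Fin 4 ⊕ Fin 4 → F) :=
    (LinearEquiv.automorphismGroup.toLinearMapMonoidHom (R := F) (M := Fin 4 ⊕ Fin 4 → F)).comp
      ((E (LieClassical.QuadForms.plusForm 4 F)).subtype.comp
        (S₁ : Subgroup ↥(E (LieClassical.QuadForms.plusForm 4 F))).subtype)
  have hρ : Function.Injective ρ := fun a b hab =>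
    Subtype.ext (Subtype.ext (LinearEquiv.toLinearMap_injective hab))
  have hS₁ : IsCyclic ↥(S₁ : Subgroup ↥(E (LieClassical.QuadForms.plusForm 4 F))) := by
    rcases hd35 with h3 | h5
    · refine isCyclic_odd (b := polarBilin (LieClassical.QuadForms.plusForm 4 F)) hp2 hpF (fun v hv => ?_) hOrd
        (by rw [Nat.card_eq_fintype_card]; exact (hdvd d).2 dvd_rfl) (by rw [h3]; decide) (by rw [hfr]; omega)
        S₁.2 ρ hρ fun γ u v => ?_
      · apply hG.nondeg
        intro w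
        rw [polar_comm]
        exact hv w
      · have hO := E_le_O γ.1.2
        change polar _ (γ.1.1 u) (γ.1.1 v) = polar _ u v
        unfold polar
        rw [← map_add, hO, hO, hO]
    · exact isCyclic_of S₁.2 ρ hρ hOrd hpF (by rw [hfr]; omega)
  refine ⟨S₁.mapSurjective (QuotientGroup.mk'_surjective (Subgroup.center _)), ?_⟩
  rw [Sylow.coe_mapSurjective]
  exact isCyclic_of_surjective _ ((QuotientGroup.mk' (Subgroup.center ↥(E (LieClassical.QuadForms.plusForm 4 F)))).subgroupMap_surjective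
    (S₁ : Subgroup ↥(E (LieClassical.QuadForms.plusForm 4 F))))

/-- the `5`-part of the order -/
theorem not_dvd_order {q n t N d : ℕ} (hq1 : 1 ≤ q) (hq : q ^ 2 + 1 = 5 ^ n * t) (hn : 0 < n) (ht : ¬ 5 ∣ t)
    (h5 : ¬ 5 ∣ q) (hd : ¬ 5 ∣ q ^ 2 - 1) (h : d * N = q ^ 12 * ((q ^ 4 - 1) * prB q 3)) : ¬ 5 ^ (2 * n + 1) ∣ N := by
  have hp : Nat.Prime 5 := by norm_num
  intro hN
  have h1 : 5 ^ (2 * n + 1) ∣ q ^ 12 * ((q ^ 4 - 1) * prB q 3) := h ▸ hN.mul_left d
  obtain ⟨k, hk⟩ := Nat.exists_eq_add_of_le (Nat.one_le_pow 2 q hq1)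
  have hk' : q ^ 2 - 1 = k := by omega
  have e4 : q ^ 4 - 1 = k * (5 ^ n * t) := by
    rw [← hq, hk]
    have h2 : q ^ 4 = (q ^ 2) ^ 2 := by ring
    rw [h2, hk]
    have h3 : (1 + k) ^ 2 = k * (1 + k + 1) + 1 := by ring
    rw [h3, Nat.add_sub_cancel]
  have e6 : q ^ 6 - 1 = k * (q ^ 2 * (q ^ 2 + 1) + 1) := by
    rw [hk]
    have h2 : q ^ 6 = (q ^ 2) ^ 3 := by ring
    rw [h2, hk]
    have h3 : (1 + k) ^ 3 = k * ((1 + k) * (1 + k + 1) + 1) + 1 := by ring
    rw [h3, Nat.add_sub_cancel]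
  have e0 : prB q 3 = (q ^ 2 - 1) * ((q ^ 4 - 1) * ((q ^ 6 - 1) * 1)) := rfl
  rw [e0, e4, e6, hk'] at h1
  have h2 : q ^ 12 * (k * (5 ^ n * t) * (k * (k * (5 ^ n * t) * (k * (q ^ 2 * (q ^ 2 + 1) + 1) * 1)))) =
      5 ^ (2 * n) * (q ^ 12 * k ^ 4 * t ^ 2 * (q ^ 2 * (q ^ 2 + 1) + 1)) := by
    rw [two_mul, pow_add]
    ring
  rw [h2, pow_succ] at h1
  have h3 := Nat.dvd_of_mul_dvd_mul_left (by positivity) h1
  rcases hp.dvd_mul.1 h3 with h3 | h3
  · rcases hp.dvd_mul.1 h3 with h3 | h3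
    · rcases hp.dvd_mul.1 h3 with h3 | h3
      · exact h5 (hp.dvd_of_dvd_pow h3)
      · exact hd (by rw [hk']; exact hp.dvd_of_dvd_pow h3)
    · exact ht (hp.dvd_of_dvd_pow h3)
  · have h4 : 5 ∣ q ^ 2 * (q ^ 2 + 1) := by
      rw [hq]
      exact Dvd.dvd.mul_left (Dvd.dvd.mul_right (dvd_pow_self 5 hn.ne') t) _
    have := (Nat.dvd_add_right h4).1 h3
    omega

/-- **`5 ∣ q² + 1`** -/
theorem main_four {F : Type} [Field F] [Fintype F] (hn5 : 5 ∣ Fintype.card F ^ 2 + 1)
    [IsSimpleGroup (P (LieClassical.QuadForms.plusForm 4 F))]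
    [Finite (P (LieClassical.QuadForms.plusForm 4 F))]
    (hna : ∃ a b : P (LieClassical.QuadForms.plusForm 4 F), a * b ≠ b * a)
    (hord : ∀ n t : ℕ, Fintype.card F ^ 2 + 1 = 5 ^ n * t → 0 < n → ¬ 5 ∣ t →
      ¬ 5 ^ (2 * n + 1) ∣ Nat.card (P (LieClassical.QuadForms.plusForm 4 F))) :
    KRow.{u, 0} 5 (P (LieClassical.QuadForms.plusForm 4 F)) := by
  have hp : Fact (Nat.Prime 5) := ⟨by norm_num⟩
  obtain ⟨r, hch, n', hr, hc⟩ := FiniteField.card' F
  have hfr : Fact r.Prime := ⟨hr⟩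
  have hK : finrank F (FiniteField.Extension F r 4) = 4 := FiniteField.finrank_extension F r 4
  have hfd : FiniteDimensional F (FiniteField.Extension F r 4) := Module.Finite.of_finite
  obtain ⟨Q₁, ψ, hform, hiso⟩ := exists_model hK
  rw [Cfsg.Agent.AutOrth.Main.plusForm_eq] at hiso
  have hG : _root_.Cfsg.Agent.LieClassical.OrthTrans.Good (LieClassical.QuadForms.plusForm 4 F) := Cfsg.Agent.AutOrth.Main.good_plus (by norm_num)
  have h : Mdl (fr F (FiniteField.Extension F r 4)) (LieClassical.QuadForms.plusForm 4 F) Q₁ ψ :=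
    ⟨hG, hK, quart' hK, hform, hiso⟩
  have hQn := nondegenerate_of_nondeg hG.nondeg
  have hfinV : Finite ((Fin 4 ⊕ Fin 4 → F) ≃ₗ[F] (Fin 4 ⊕ Fin 4 → F)) :=
    Finite.of_injective (fun g : (Fin 4 ⊕ Fin 4 → F) ≃ₗ[F] (Fin 4 ⊕ Fin 4 → F) =>
      (g : (Fin 4 ⊕ Fin 4 → F) → (Fin 4 ⊕ Fin 4 → F))) DFunLike.coe_injective
  have hsw := h.sw_mem_E hQn (by decide) (exists_half hK)
  obtain ⟨n, t, ht, hnt⟩ := Nat.exists_eq_pow_mul_and_not_dvd (n := Fintype.card F ^ 2 + 1) (by omega) 5 (by norm_num)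
  have hn0 : 0 < n := by
    rw [Nat.pos_iff_ne_zero]
    rintro rfl
    rw [pow_zero, one_mul] at hnt
    exact ht (hnt ▸ hn5)
  have hX := hord n t hnt hn0 ht
  -- the element `z`
  obtain ⟨z, hz⟩ : ∃ z : (FiniteField.Extension F r 4)ˣ, orderOf z = 5 ^ n := by
    obtain ⟨g, hg⟩ := IsCyclic.exists_ofOrder_eq_natCard (α := (FiniteField.Extension F r 4)ˣ)
    have h1 := card_units_K hK
    have hpos : 0 < Nat.card (FiniteField.Extension F r 4)ˣ := Nat.card_pos
    rw [hnt] at h1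
    have h2 : (Fintype.card F ^ 2 - 1) * t ≠ 0 := by
      intro h0
      have : (Fintype.card F ^ 2 - 1) * (5 ^ n * t) = 5 ^ n * ((Fintype.card F ^ 2 - 1) * t) := by ring
      rw [this, h0, mul_zero] at h1
      omega
    refine ⟨g ^ ((Fintype.card F ^ 2 - 1) * t), ?_⟩
    have h3 : Nat.card (FiniteField.Extension F r 4)ˣ = (Fintype.card F ^ 2 - 1) * t * 5 ^ n := by rw [h1]; ring
    rw [orderOf_pow_of_dvd h2 (by rw [hg, h3]; exact dvd_mul_right _ _), hg, h3,
      Nat.mul_div_cancel_left _ (Nat.pos_of_ne_zero h2)]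
  by_cases hn1 : n = 1
  · subst hn1
    obtain ⟨A, x, y, c, u, D⟩ := triX h hsw (by rw [hz, pow_one]) hn5
    exact krow_of_tri hna hX (D.mk' (center_sq hG))
  · have hn2 : 2 ≤ n := by omega
    have hz1 : z ^ 5 ^ n = 1 := by rw [← hz, pow_orderOf_eq_one]
    have hodd : Odd (5 ^ n) := Odd.pow (by decide)
    have hdn : 5 ^ n ∣ Fintype.card F ^ 2 + 1 := ⟨t, hnt⟩
    set f := ff h hz1 hodd hdn with hf
    set θ : ZZ z →* P (LieClassical.QuadForms.plusForm 4 F) :=
      (QuotientGroup.mk' (Subgroup.center ↥(E (LieClassical.QuadForms.plusForm 4 F)))).comp f with hθ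
    have hθi : Function.Injective θ := by
      rw [injective_iff_map_eq_one]
      intro a ha
      apply ff_inj h hz1 hodd hdn
      rw [map_one]
      refine mk_eq_one (center_sq hG) hodd (x := f a) ?_ ha
      rw [← map_pow]
      have : a ^ 5 ^ n = 1 := Subtype.ext (pow_ZZ hz1 a.2)
      rw [this, map_one]
    have hcard : Nat.card θ.range = 5 ^ (2 * n) := by
      rw [← Nat.card_congr (MonoidHom.ofInjective hθi).toEquiv, card_ZZ, hz, ← pow_add, two_mul]
    have hxz : (z ^ 5 ^ (n - 2), (1 : (FiniteField.Extension F r 4)ˣ)) ∈ ZZ z :=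
      ⟨(Subgroup.zpowers z).pow_mem (Subgroup.mem_zpowers z) _, (Subgroup.zpowers z).one_mem⟩
    refine krow_of_long (p := 5) (by norm_num) hna hcard hX ?_ (x := θ ⟨_, hxz⟩) ⟨_, rfl⟩ ?_
    · rintro _ ⟨a, rfl⟩ _ ⟨b, rfl⟩
      rw [← map_mul, ← map_mul, mul_comm]
    · rw [orderOf_injective θ hθi, ← Subgroup.orderOf_coe]
      change orderOf ((z ^ 5 ^ (n - 2), (1 : (FiniteField.Extension F r 4)ˣ))) = 5 ^ 2
      rw [Prod.orderOf, orderOf_one, Nat.lcm_one_right]
      have h1 : 5 ^ (n - 2) ∣ orderOf z := by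
        rw [hz]
        exact pow_dvd_pow 5 (by omega)
      rw [orderOf_pow_of_dvd (by positivity) h1, hz, Nat.pow_div (by omega) (by norm_num)]
      congr 1
      omega

theorem z3 : ∀ x : ZMod 3, x ≠ 0 → x ^ 2 = 1 := by decide

theorem z5 : ∀ x : ZMod 5, x ≠ 0 → x ^ 2 ≠ 1 → x ^ 2 + 1 = 0 := by decide

theorem z7 : ∀ x : ZMod 7, x ^ 4 = 1 → x ^ 2 = 1 := by decide

/-- **the row `p ∤ q² - 1`** -/
theorem krow_oplus_four_more {S : Type u} [Group S] [Finite S] [IsSimpleGroup S] {p : ℕ} [hpf : Fact p.Prime]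
    {q : ℕ} (h357 : p = 3 ∨ p = 5 ∨ p = 7) (hnab : ¬ ∀ x y : S, Commute x y)
    (hnc : ∀ Q : Sylow p S, ¬ IsCyclic (Q : Subgroup S)) (h : IsNamed (.oplus 4 q) S) (hq : ¬ p ∣ q)
    (hd : ¬ p ∣ q ^ 2 - 1) : KRow.{u, u} p S := by
  obtain ⟨F, hF, hF', hcF, ⟨e⟩⟩ := exists_model_P h
  have hfin : Finite (P (LieClassical.QuadForms.plusForm 4 F)) := Finite.of_equiv S e.symm.toEquiv
  have hqpos : 1 ≤ q := by rw [← hcF]; exact Fintype.card_pos
  have hcast : ∀ m : ℕ, p ∣ q ^ m - 1 ↔ ((q : ℕ) : ZMod p) ^ m = 1 := by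
    intro m
    rw [← Nat.cast_pow, ← Nat.cast_one (R := ZMod p), ZMod.natCast_eq_natCast_iff,
      Nat.ModEq.comm, Nat.modEq_iff_dvd' (Nat.one_le_pow _ _ hqpos)]
  have hq0 : ((q : ℕ) : ZMod p) ≠ 0 := by
    rw [Ne, ZMod.natCast_eq_zero_iff]; exact hq
  rw [hcast] at hd
  rcases h357 with rfl | rfl | rfl
  · exfalso
    exact hd (z3 _ hq0)
  · have h2 := z5 _ hq0 hd
    have hn5 : 5 ∣ q ^ 2 + 1 := by
      rw [← ZMod.natCast_eq_zero_iff]
      push_cast
      exact h2
    have hna : ∃ a b : P (LieClassical.QuadForms.plusForm 4 F), a * b ≠ b * a := by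
      push Not at hnab
      obtain ⟨a, b, hab⟩ := hnab
      refine ⟨e.symm a, e.symm b, fun h' => hab ?_⟩
      have h3 := congrArg e h'
      rwa [map_mul, map_mul, e.apply_symm_apply, e.apply_symm_apply] at h3
    have hnt : Nontrivial (P (LieClassical.QuadForms.plusForm 4 F)) := e.toEquiv.nontrivial
    have hsimp : IsSimpleGroup (P (LieClassical.QuadForms.plusForm 4 F)) :=
      IsSimpleGroup.isSimpleGroup_of_surjective e.symm.toMonoidHom e.symm.surjective
    refine KRow.congr e (main_four (by rw [hcF]; exact hn5) hna fun n t hnt' hn0 ht => ?_)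
    rw [hcF] at hnt'
    have heq : den (.oplus 4 q) * Nat.card S = num (.oplus 4 q) := h.eq
    rw [Nat.card_congr e.toEquiv]
    exact not_dvd_order hqpos hnt' hn0 ht hq (by rw [hcast]; exact hd) heq
  · exfalso
    obtain ⟨R, hR⟩ := cyclic_P' (F := F) (p := 7) (by norm_num) (natCast_ne_zero (by rw [hcF]; exact hq)) (by
      rw [hcF, hcast]
      exact fun h' => hd (z7 _ h'))
    apply hnc (R.mapSurjective (f := e.toMonoidHom) e.surjective)
    have h2 : ((R.mapSurjective (f := e.toMonoidHom) e.surjective : Sylow 7 S) : Subgroup S) =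
        (R : Subgroup (P (LieClassical.QuadForms.plusForm 4 F))).map e.toMonoidHom := rfl
    rw [h2]
    exact isCyclic_of_surjective _ (e.toMonoidHom.subgroupMap_surjective
      (R : Subgroup (P (LieClassical.QuadForms.plusForm 4 F))))

end Cfsg.Agent.H683.K6
end

-- part: H683/K6/OFourRow_mg
section

end

-- part: H404/K6/ExtTwo
section
set_option linter.all false
open scoped Cfsg.Agent.FastGrp

/-!
S4876, helper404: `ExtK p X` for groups `X` with at most three outer automorphisms and an invariant nontrivial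
character in `B₀(X)`.
-/

set_option autoImplicit false

namespace Cfsg.Agent.H404.K6

open Cfsg Subgroup Cfsg.Agent.Characters.Core Cfsg.Agent.H61.K6 Cfsg.Agent.Blocks
open scoped ComplexConjugate

universe u v

/-- A character over an invariant character of a normal subgroup of index at most 3 extends it. -/
theorem restrict_eq_of_inv {G : Type u} [Group G] [Fintype G] (K : Subgroup G) [K.Normal] [Fintype K]
    (hi : K.index ≤ 3) {ψ : G → ℂ} (hψ : IsIrrCharacter G ψ) {θ : K → ℂ} (hθ : IsIrrCharacter K θ)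
    (hinv : ∀ (g : G) (k : K), θ (MulAut.conjNormal g k) = θ k) (h0 : classInner (fun k : K => ψ k) θ ≠ 0) :
    ∀ k : K, ψ k = θ k := by
  classical
  obtain ⟨c, hc⟩ := H80.K6.avg_constituent K hψ hθ h0
  rw [H80.K6.avg_eq_self K hinv] at hc
  -- the multiplicity
  obtain ⟨e, he⟩ := classInner_isNat (isCharacter_comp K.subtype (isIrr_isCharacter hψ)) (isIrr_isCharacter hθ)
  have he' : classInner (fun k : K => ψ k) θ = e := he
  have he0 : e ≠ 0 := by
    rintro rfl
    rw [he'] at h0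
    simp at h0
  have hθ1 := classInner_irr_self hθ
  have hc1 : (starRingEnd ℂ) c * e = 1 := by
    have h1 : classInner θ θ = (starRingEnd ℂ) c * 0 + 1 := by rw [hθ1]; ring
    have h2 : classInner (fun k : K => ψ k) θ * 1 = e := by rw [mul_one, he']
    have h3 : classInner θ θ = c * classInner (fun k : K => ψ k) θ := by
      conv_lhs => rw [hc]
      rw [classInner_smul_left, ← hc]
    rw [he', hθ1] at h3
    have h4 := congrArg (starRingEnd ℂ) h3
    rw [map_one, map_mul, Complex.conj_natCast] at h4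
    exact h4.symm
  have hce : c * e = 1 := by
    have h4 := congrArg (starRingEnd ℂ) hc1
    rw [map_one, map_mul, Complex.conj_natCast, Complex.conj_conj] at h4
    exact h4
  have hψθ : ∀ k : K, ψ k = e * θ k := by
    intro k
    have h1 := congrFun hc k
    rw [Pi.smul_apply, smul_eq_mul] at h1
    rw [h1, ← mul_assoc, mul_comm (e : ℂ) c, hce, one_mul]
  -- the norm
  have hn : (e : ℂ) * e * Nat.card K = ∑ k : K, ψ k * conj (ψ k) := by
    rw [classInner_def] at hθ1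
    have hK0 : (Nat.card K : ℂ) ≠ 0 := card_ne_zero_complex
    have h2 : ∑ k : K, θ k * conj (θ k) = Nat.card K := by
      have h3 := congrArg (fun z => (Nat.card K : ℂ) * z) hθ1
      simp only [mul_one] at h3
      rw [← h3, ← mul_assoc, mul_inv_cancel₀ hK0, one_mul]
    rw [← h2, Finset.mul_sum]
    refine Finset.sum_congr rfl fun k _ => ?_
    rw [hψθ k, map_mul, Complex.conj_natCast]
    ring
  have hle : (e : ℝ) * e * Nat.card K ≤ Nat.card G := by
    have h1 : ((e : ℝ) * e * Nat.card K : ℝ) = ∑ k : K, Complex.normSq (ψ k) := by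
      have h2 : (((e : ℝ) * e * Nat.card K : ℝ) : ℂ) = ((∑ k : K, Complex.normSq (ψ k) : ℝ) : ℂ) := by
        push_cast
        rw [hn]
        exact Finset.sum_congr rfl fun k _ => Complex.mul_conj _
      exact_mod_cast h2
    have h3 : (Nat.card G : ℝ) = ∑ g : G, Complex.normSq (ψ g) := by
      have h4 := classInner_irr_self hψ
      rw [classInner_def] at h4
      have hG0 : (Nat.card G : ℂ) ≠ 0 := card_ne_zero_complex
      have h5 : ((Nat.card G : ℝ) : ℂ) = ((∑ g : G, Complex.normSq (ψ g) : ℝ) : ℂ) := by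
        push_cast
        have h6 := congrArg (fun z => (Nat.card G : ℂ) * z) h4
        simp only [mul_one] at h6
        rw [← h6, ← mul_assoc, mul_inv_cancel₀ hG0, one_mul]
        exact Finset.sum_congr rfl fun g _ => Complex.mul_conj _
      exact_mod_cast h5
    rw [h1, h3]
    have h4 : ∑ k : K, Complex.normSq (ψ k) = ∑ g ∈ Finset.univ.filter (fun g => g ∈ K), Complex.normSq (ψ g) := by
      refine Finset.sum_bij (fun k _ => (k : G)) ?_ ?_ ?_ ?_
      · intro k _
        exact Finset.mem_filter.2 ⟨Finset.mem_univ _, k.2⟩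
      · intro a _ b _ h
        exact Subtype.ext h
      · intro g hg
        exact ⟨⟨g, (Finset.mem_filter.1 hg).2⟩, Finset.mem_univ _, rfl⟩
      · intro k _
        rfl
    rw [h4]
    exact Finset.sum_le_sum_of_subset_of_nonneg (Finset.filter_subset _ _) fun _ _ _ => Complex.normSq_nonneg _
  have he1 : e = 1 := by
    have h1 : e * e * Nat.card K ≤ Nat.card G := by exact_mod_cast hle
    have h2 := K.card_mul_index
    have h3 : 0 < Nat.card K := Nat.card_pos
    have h4 : e * e ≤ 3 := by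
      by_contra h5
      have h6 : 4 * Nat.card K ≤ e * e * Nat.card K := Nat.mul_le_mul_right _ (by omega)
      have h7 : Nat.card K * K.index ≤ Nat.card K * 3 := Nat.mul_le_mul_left _ hi
      omega
    have h5 : e < 2 := by
      by_contra h6
      have h7 : 2 * 2 ≤ e * e := Nat.mul_le_mul (by omega) (by omega)
      omega
    omega
  intro k
  rw [hψθ k, he1, Nat.cast_one, one_mul]

/-- **Extension**: at most three outer automorphisms and an invariant nontrivial character in `B₀(X)`. -/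
theorem ExtK.of_inv {p : ℕ} {X : Type v} [Group X] [Finite X] (hi : (MulAut.conj : X →* MulAut X).range.index ≤ 3)
    (h : ∀ M : Ideal AlgInt, IsPModular p M → ∃ χ ∈ principalBlock M X,
      (∀ (σ : MulAut X) (x : X), (χ : X → ℂ) (σ x) = (χ : X → ℂ) x) ∧ ∃ x : X, (χ : X → ℂ) x ≠ 1) :
    H668.K6.ExtK.{u, v} p X := by
  classical
  intro M G _ _ K hS
  have : Fact p.Prime := ⟨hS.prime⟩
  have hKn := hS.normal
  have := Fintype.ofFinite G
  have := Fintype.ofFinite K
  obtain ⟨f⟩ := hS.iso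
  obtain ⟨χ, hχ, hinv, x, hx⟩ := h M hS.modular
  obtain ⟨P⟩ : Nonempty (Sylow p G) := inferInstance
  obtain ⟨ψ, hψ, h0⟩ := H656.OverPrincipal.exists_over hS.modular K P
    (by rw [Subgroup.normalizer_eq_top]; exact le_top) (tw f.symm χ) (tw_mem f.symm hχ)
  have h1 := restrict_eq_of_inv K (H710.R4.index_le_of_equiv K f hS.cent hi) ψ.2 (tw f.symm χ).2 (fun g k => by
    rw [tw_apply, tw_apply]
    have h2 := hinv ((f.trans (MulAut.conjNormal g : MulAut K)).trans f.symm) (f.symm k)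
    have h3 : ((f.trans (MulAut.conjNormal g : MulAut K)).trans f.symm) (f.symm k) =
        f.symm (MulAut.conjNormal g k) := by
      show f.symm (MulAut.conjNormal g (f (f.symm k))) = _
      rw [f.apply_symm_apply]
    rw [h3] at h2
    exact h2) h0
  refine ⟨ψ, hψ, ?_, f x, ?_⟩
  · have h2 : (fun s : ↥K => (ψ : G → ℂ) s) = (tw f.symm χ : K → ℂ) := funext h1
    rw [h2]
    exact (tw f.symm χ).2
  · rw [h1, tw_apply, f.symm_apply_apply]
    exact hx

end Cfsg.Agent.H404.K6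
end

-- part: H600/SixRow/Main
section
prune_inst 0x1400020030010000000009431002010400004900000000010e000000006120009800000408009041008a20100010000001000900040000004000000000000000020020090080000000080003086000000000000000000000000000000041004000000000
set_option linter.all false
open scoped Cfsg.Agent.FastGrp

-- part: H600/SixRow/Aut
section
/-!
# Explicit exotic automorphism of `A₆`
-/

set_option autoImplicit false
set_option maxRecDepth 100000

namespace Cfsg.Agent.H600.SixRow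

open Equiv Equiv.Perm Subgroup
open Cfsg.Agent.Lib.AltCarmichael Cfsg.Agent.LFourA.AltPsiAut

/-- `(0 1 2)` -/
def pu : Perm (Fin 6) := swap (0 : Fin 6) 1 * swap (1 : Fin 6) 2
/-- `(3 4 5)` -/
def pv : Perm (Fin 6) := swap (3 : Fin 6) 4 * swap (4 : Fin 6) 5
/-- `(1 2 3 4 5)` -/
def pz : Perm (Fin 6) := swap (1 : Fin 6) 2 * swap (2 : Fin 6) 3 * (swap (3 : Fin 6) 4 * swap (4 : Fin 6) 5)
/-- `(0 2 4 1 3)` -/
def py : Perm (Fin 6) := swap (0 : Fin 6) 2 * swap (2 : Fin 6) 4 * (swap (4 : Fin 6) 1 * swap (1 : Fin 6) 3)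

theorem pu_mem : pu ∈ alternatingGroup (Fin 6) := by rw [mem_alternatingGroup]; decide
theorem pv_mem : pv ∈ alternatingGroup (Fin 6) := by rw [mem_alternatingGroup]; decide
theorem pz_mem : pz ∈ alternatingGroup (Fin 6) := by rw [mem_alternatingGroup]; decide
theorem py_mem : py ∈ alternatingGroup (Fin 6) := by rw [mem_alternatingGroup]; decide

/-- `(0 1 2)` -/
def u : A6 := ⟨pu, pu_mem⟩
/-- `(3 4 5)` -/
def v : A6 := ⟨pv, pv_mem⟩
/-- `(1 2 3 4 5)` -/
def z : A6 := ⟨pz, pz_mem⟩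
/-- `(0 2 4 1 3)` -/
def y : A6 := ⟨py, py_mem⟩

/-- the images of the Carmichael generators -/
def xe : ℕ → A6
  | 0 => ⟨swap (0 : Fin 6) 4 * swap (4 : Fin 6) 5 * (swap (1 : Fin 6) 3 * swap (3 : Fin 6) 2), by rw [Perm.mem_alternatingGroup]; decide⟩
  | 1 => ⟨swap (0 : Fin 6) 5 * swap (5 : Fin 6) 1 * (swap (2 : Fin 6) 3 * swap (3 : Fin 6) 4), by rw [Perm.mem_alternatingGroup]; decide⟩
  | 2 => ⟨swap (0 : Fin 6) 2 * swap (2 : Fin 6) 4 * (swap (1 : Fin 6) 5 * swap (5 : Fin 6) 3), by rw [Perm.mem_alternatingGroup]; decide⟩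
  | _ => ⟨swap (0 : Fin 6) 1 * swap (1 : Fin 6) 2 * (swap (3 : Fin 6) 5 * swap (5 : Fin 6) 4), by rw [Perm.mem_alternatingGroup]; decide⟩

theorem rel_xe : Rel 4 xe where
  cube := by
    intro i hi
    interval_cases i <;> (apply Subtype.ext; decide)
  sq := by
    intro i hi j hj hij
    interval_cases i <;> interval_cases j <;> first | exact absurd rfl hij | (apply Subtype.ext; decide)

/-- **An exotic automorphism normalising `⟨(0 1 2), (3 4 5)⟩`.** -/
theorem exists_eps : ∃ ε : MulAut A6, ε u = u⁻¹ * v⁻¹ ∧ ε v = u * v⁻¹ ∧ ε z = y := by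
  obtain ⟨φ, hφ⟩ := exists_hom (m := 4) (by norm_num) rel_xe
  have hinj : Function.Injective φ := by
    have hs : IsSimpleGroup (alternatingGroup (Fin 6)) := alternatingGroup.isSimpleGroup (by
      rw [Nat.card_eq_fintype_card, Fintype.card_fin]; norm_num)
    rw [← MonoidHom.ker_eq_bot_iff]
    rcases hs.eq_bot_or_eq_top_of_normal φ.ker inferInstance with h | h
    · exact h
    · exfalso
      have h1 : (⟨cyc 4 0, cyc_mem 4 0 (by norm_num)⟩ : alternatingGroup (Fin (4 + 2))) ∈ φ.ker := by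
        rw [h]; trivial
      rw [MonoidHom.mem_ker, hφ 0 (by norm_num)] at h1
      have := congrArg Subtype.val h1
      revert this; decide
  let ε : MulAut A6 := MulEquiv.ofBijective φ ((Finite.injective_iff_bijective).1 hinj)
  have hε : ∀ x, ε x = φ x := fun x => rfl
  have w1 : u = (⟨cyc 4 0, cyc_mem 4 0 (by norm_num)⟩ : A6) * (⟨cyc 4 2, cyc_mem 4 2 (by norm_num)⟩ : A6)⁻¹ *
      ⟨cyc 4 1, cyc_mem 4 1 (by norm_num)⟩ * (⟨cyc 4 0, cyc_mem 4 0 (by norm_num)⟩ : A6)⁻¹ := by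
    apply Subtype.ext; decide
  have w2 : v = (⟨cyc 4 3, cyc_mem 4 3 (by norm_num)⟩ : A6) := by
    apply Subtype.ext; decide
  have w3 : z = (⟨cyc 4 3, cyc_mem 4 3 (by norm_num)⟩ : A6) * (⟨cyc 4 2, cyc_mem 4 2 (by norm_num)⟩ : A6)⁻¹ *
      ⟨cyc 4 1, cyc_mem 4 1 (by norm_num)⟩ := by
    apply Subtype.ext; decide
  refine ⟨ε, ?_, ?_, ?_⟩
  · rw [hε, w1, map_mul, map_mul, map_mul, map_inv, map_inv, hφ 0 (by norm_num), hφ 1 (by norm_num),
      hφ 2 (by norm_num)]
    apply Subtype.ext; decide +kernel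
  · rw [hε, w2, hφ 3 (by norm_num)]
    apply Subtype.ext; decide +kernel
  · rw [hε, w3, map_mul, map_mul, map_inv, hφ 1 (by norm_num), hφ 2 (by norm_num), hφ 3 (by norm_num)]
    apply Subtype.ext; decide +kernel

/-! ### computations -/

/-- even, maps `y` to `z` -/
def ps : Perm (Fin 6) := ⟨![1, 4, 2, 5, 3, 0], ![5, 0, 2, 4, 1, 3], by decide, by decide⟩
/-- odd, maps `y` to `z ^ 2` -/
def pt : Perm (Fin 6) := ⟨![1, 2, 3, 4, 5, 0], ![5, 0, 1, 2, 3, 4], by decide, by decide⟩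

theorem ps_sign : sign ps = 1 := by decide +kernel
theorem pt_sign : sign pt = -1 := by decide +kernel
theorem ps_conj : ps * py * ps⁻¹ = pz := by decide +kernel
theorem pt_conj : pt * py * pt⁻¹ = pz ^ 2 := by decide +kernel

/-- normalises `⟨u, v⟩`: `u ↦ v ↦ u⁻¹` -/
def ph : Perm (Fin 6) := ⟨![3, 4, 5, 1, 0, 2], ![4, 3, 5, 0, 1, 2], by decide, by decide⟩

theorem ph_sign : sign ph = 1 := by decide +kernel
theorem ph_u : ph * pu * ph⁻¹ = pv := by decide +kernel
theorem ph_v : ph * pv * ph⁻¹ = pu⁻¹ := by decide +kernel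

theorem card_six : Nat.card A6 = 360 := by
  rw [nat_card_alternatingGroup, Nat.card_eq_fintype_card, Fintype.card_fin]; decide

/-- the centralizer of `u` -/
theorem cent_u : ∀ σ : Perm (Fin 6), sign σ = 1 → σ * pu = pu * σ → ∃ i j : Fin 3, σ = pu ^ (i : ℕ) * pv ^ (j : ℕ) := by
  simp only [↓Cfsg.Agent.PermCode.M, Cfsg.Agent.PermCode.P6.R, Cfsg.Agent.PermCode.B]
  decide +kernel

theorem conj_y : ∀ σ : Perm (Fin 6), σ * (py ^ 2) * σ⁻¹ = py → sign σ = -1 := by
  simp only [↓Cfsg.Agent.PermCode.M, Cfsg.Agent.PermCode.P6.R, Cfsg.Agent.PermCode.B]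
  decide +kernel

end Cfsg.Agent.H600.SixRow
end

-- part: H600/SixRow/Grp
section
/-!
# Groups with a normal `A₆`: the two extensions with `N(P) / C(P)` of order eight, free
-/

set_option autoImplicit false
set_option maxRecDepth 100000

namespace Cfsg.Agent.H600.SixRow

open Equiv Equiv.Perm Subgroup
open Cfsg.Agent.LFourA.AltPsiAut Cfsg.Agent.H629.T9

universe w

/-- conjugation by a permutation -/
def cn (σ : Perm (Fin 6)) : MulAut A6 := MulAut.conjNormal σ

theorem cn_coe (σ : Perm (Fin 6)) (x : A6) : ((cn σ x : A6) : Perm (Fin 6)) = σ * x * σ⁻¹ :=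
  MulAut.conjNormal_apply σ x

theorem cn_mul (σ τ : Perm (Fin 6)) : cn (σ * τ) = cn σ * cn τ := map_mul _ _ _

theorem exists_cn {α : MulAut A6} (hα : α ∈ NE) : ∃ σ, α = cn σ := by
  obtain ⟨σ, hσ⟩ := exists_perm hα
  exact ⟨σ, MulEquiv.ext fun x => Subtype.ext (by rw [hσ, cn_coe])⟩

variable {G : Type w} [Group G] {S : Subgroup G} [hSn : S.Normal]

/-- the action on `A₆` -/
noncomputable def act (e : S ≃* A6) : G →* MulAut A6 := (MulAut.congr e).toMonoidHom.comp MulAut.conjNormal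

theorem act_apply (e : S ≃* A6) (g : G) (x : S) : act e g (e x) = e (MulAut.conjNormal g x) := by
  show e ((MulAut.conjNormal g : MulAut S) (e.symm (e x))) = _
  rw [e.symm_apply_apply]

theorem act_mem (e : S ≃* A6) (s : S) : act e (s : G) = cn (e s : Perm (Fin 6)) := by
  apply MulEquiv.ext
  intro x
  obtain ⟨x, rfl⟩ := e.surjective x
  rw [act_apply]
  apply Subtype.ext
  rw [cn_coe]
  have h : (MulAut.conjNormal (s : G) : MulAut S) x = s * x * s⁻¹ := by
    apply Subtype.ext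
    rw [MulAut.conjNormal_apply]
    rfl
  rw [h, map_mul, map_mul, map_inv]
  rfl

theorem act_inj (e : S ≃* A6) (hC : centralizer (S : Set G) = ⊥) {g h : G} (hgh : act e g = act e h) : g = h := by
  have h1 : act e (h⁻¹ * g) = 1 := by rw [map_mul, hgh, ← map_mul, inv_mul_cancel, map_one]
  have h2 : h⁻¹ * g ∈ centralizer (S : Set G) := by
    rw [mem_centralizer_iff]
    intro y hy
    have h3 := act_apply e (h⁻¹ * g) ⟨y, hy⟩
    rw [h1, MulAut.one_apply] at h3
    have h4 := congrArg Subtype.val (e.injective h3)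
    rw [MulAut.conjNormal_apply] at h4
    have h5 : h⁻¹ * g * y * (h⁻¹ * g)⁻¹ = y := h4.symm
    rw [mul_inv_eq_iff_eq_mul] at h5
    exact h5.symm
  rw [hC, mem_bot] at h2
  rw [← mul_one h, ← h2]; group

/-- conjugation in `G` through `act` -/
theorem conj_eq (e : S ≃* A6) {g : G} {a b : A6} (h : act e g a = b) :
    g * ((e.symm a : S) : G) * g⁻¹ = ((e.symm b : S) : G) := by
  have h1 := act_apply e g (e.symm a)
  rw [e.apply_symm_apply, h] at h1
  rw [h1, e.symm_apply_apply, MulAut.conjNormal_apply]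

theorem act_eq (e : S ≃* A6) {g : G} {a b : A6} (h : g * ((e.symm a : S) : G) * g⁻¹ = ((e.symm b : S) : G)) :
    act e g a = b := by
  have h1 := act_apply e g (e.symm a)
  rw [e.apply_symm_apply] at h1
  rw [h1]
  have h2 : (MulAut.conjNormal g : MulAut S) (e.symm a) = e.symm b := by
    apply Subtype.ext
    rw [MulAut.conjNormal_apply]
    exact h
  rw [h2, e.apply_symm_apply]

theorem card_cent_u : Nat.card (centralizer ({u} : Set A6)) = 9 := by
  have h := Nat.subtype_card (p := fun x : A6 => x ∈ centralizer ({u} : Set A6))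
    (Finset.univ.filter (fun x : A6 => x * u = u * x)) (fun x => by
      rw [Finset.mem_filter, mem_centralizer_singleton_iff]
      simp)
  refine h.trans ?_
  simp only [↓Cfsg.Agent.PermCode.M, Cfsg.Agent.PermCode.P6.R, Cfsg.Agent.PermCode.B]
  decide +kernel

/-- alignment of the isomorphism -/
theorem exists_equiv [Finite G] (P : Sylow 3 G) (hP : Nat.card (P : Subgroup G) = 9)
    (e₀ : S ≃* A6) : ∃ e : S ≃* A6, ∀ g : G, g ∈ P ↔ ∃ x : S, (x : G) = g ∧ e x * u = u * e x := by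
  have : Fact (Nat.Prime 3) := ⟨Nat.prime_three⟩
  let f : A6 →* G := S.subtype.comp e₀.symm.toMonoidHom
  have hf : Function.Injective f := fun a b h => e₀.symm.injective (Subtype.ext h)
  let Q : Subgroup G := (centralizer ({u} : Set A6)).map f
  have hQ : Nat.card Q = 9 := by
    rw [← card_cent_u]
    exact (Nat.card_congr ((centralizer ({u} : Set A6)).equivMapOfInjective f hf).toEquiv).symm
  let Q' : Sylow 3 G := Sylow.ofCard Q (by
    rw [hQ, ← hP]
    exact P.card_eq_multiplicity)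
  obtain ⟨g, hg⟩ := MulAction.exists_smul_eq G Q' P
  refine ⟨(MulAut.conjNormal g⁻¹ : MulAut S).trans e₀, fun k => ?_⟩
  have h1 : k ∈ P ↔ g⁻¹ * k * g ∈ Q := by
    have h2 : (P : Subgroup G) = (Q' : Subgroup G).map (MulAut.conj g).toMonoidHom := by
      rw [← hg]; rfl
    show k ∈ (P : Subgroup G) ↔ _
    rw [h2, mem_map]
    constructor
    · rintro ⟨q, hq, rfl⟩
      have h3 : g⁻¹ * (MulAut.conj g).toMonoidHom q * g = q := by
        show g⁻¹ * (g * q * g⁻¹) * g = q
        group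
      rw [h3]
      exact hq
    · intro hk
      exact ⟨_, hk, by show g * (g⁻¹ * k * g) * g⁻¹ = k; group⟩
  rw [h1]
  constructor
  · intro hk
    obtain ⟨a, ha, hak⟩ := mem_map.1 hk
    have hak' : ((e₀.symm a : S) : G) = g⁻¹ * k * g := hak
    have hkS : k ∈ S := by
      have h2 := hSn.conj_mem _ (e₀.symm a).2 g
      rw [hak'] at h2
      have h3 : g * (g⁻¹ * k * g) * g⁻¹ = k := by group
      rwa [h3] at h2
    refine ⟨⟨k, hkS⟩, rfl, ?_⟩
    have h4 : ((MulAut.conjNormal g⁻¹ : MulAut S).trans e₀) ⟨k, hkS⟩ = a := by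
      show e₀ ((MulAut.conjNormal g⁻¹ : MulAut S) ⟨k, hkS⟩) = a
      rw [← e₀.apply_symm_apply a]
      congr 1
      apply Subtype.ext
      rw [MulAut.conjNormal_apply, inv_inv, hak']
    rw [h4]
    exact mem_centralizer_singleton_iff.1 ha
  · rintro ⟨x, rfl, hx⟩
    refine mem_map.2 ⟨_, mem_centralizer_singleton_iff.2 hx, ?_⟩
    show ((e₀.symm (e₀ ((MulAut.conjNormal g⁻¹ : MulAut S) x)) : S) : G) = _
    rw [e₀.symm_apply_apply, MulAut.conjNormal_apply, inv_inv]

end Cfsg.Agent.H600.SixRow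
end

-- part: H600/SixRow/Grp2
section
/-!
# Groups with a normal `A₆`: structure in the case `N(P) / C(P)` of order eight, free
-/

set_option autoImplicit false
set_option maxRecDepth 100000

namespace Cfsg.Agent.H600.SixRow

open Equiv Equiv.Perm Subgroup
open Cfsg.Agent.LFourA.AltPsiAut Cfsg.Agent.H629.T9

universe w

variable {G : Type w} [Group G] {S : Subgroup G} [hSn : S.Normal] {P : Subgroup G} {e : S ≃* A6}

/-- the situation, aligned -/
structure Al (S : Subgroup G) (P : Subgroup G) (e : S ≃* A6) : Prop where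
  cent : centralizer (S : Set G) = ⊥
  mem : ∀ g : G, g ∈ P ↔ ∃ x : S, (x : G) = g ∧ e x * u = u * e x
  free : Free8 P

/-- the element of `G` for an element of `A₆` -/
noncomputable def el (e : S ≃* A6) (a : A6) : G := ((e.symm a : S) : G)

omit hSn in
theorem el_mul (a b : A6) : el e (a * b) = el e a * el e b := by
  unfold el; rw [map_mul]; rfl

omit hSn in
theorem el_inv (a : A6) : el e a⁻¹ = (el e a)⁻¹ := by
  unfold el; rw [map_inv]; rfl

omit hSn in
theorem el_pow (a : A6) (n : ℕ) : el e (a ^ n) = (el e a) ^ n := by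
  unfold el; rw [map_pow]; rfl

omit hSn in
theorem el_one : el e 1 = 1 := by
  unfold el; rw [map_one]; rfl

omit hSn in
theorem el_inj {a b : A6} (h : el e a = el e b) : a = b := e.symm.injective (Subtype.ext h)

omit hSn in
theorem el_mem (a : A6) : el e a ∈ S := (e.symm a).2

theorem act_el (a : A6) : act e (el e a) = cn (a : Perm (Fin 6)) := by
  have h := act_mem e (e.symm a)
  rw [e.apply_symm_apply] at h
  exact h

theorem conj_el {g : G} {a b : A6} (h : act e g a = b) : g * el e a * g⁻¹ = el e b := conj_eq e h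

theorem act_of {g : G} {a b : A6} (h : g * el e a * g⁻¹ = el e b) : act e g a = b := act_eq e h

namespace Al

omit hSn in
theorem mem_iff (A : Al S P e) (a : A6) : el e a ∈ P ↔ a * u = u * a := by
  rw [A.mem]
  constructor
  · rintro ⟨x, hx, h⟩
    have h1 : x = e.symm a := Subtype.ext hx
    rw [h1, e.apply_symm_apply] at h
    exact h
  · intro h
    exact ⟨e.symm a, rfl, by rw [e.apply_symm_apply]; exact h⟩

omit hSn in
theorem exists_el (A : Al S P e) {g : G} (hg : g ∈ P) : ∃ a : A6, g = el e a ∧ a * u = u * a := by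
  obtain ⟨x, rfl, h⟩ := (A.mem g).1 hg
  exact ⟨e x, by unfold el; rw [e.symm_apply_apply], h⟩

omit hSn in
theorem exists_el_S {g : G} (hg : g ∈ S) : ∃ a : A6, g = el e a :=
  ⟨e ⟨g, hg⟩, by unfold el; rw [e.symm_apply_apply]⟩

theorem comm_P : ∀ a b : A6, a * u = u * a → b * u = u * b → a * b = b * a := by
  intro a b ha hb
  have huv : Commute pu pv := by show pu * pv = pv * pu; decide
  obtain ⟨i, j, h1⟩ := cent_u a (Perm.mem_alternatingGroup.1 a.2) (congrArg Subtype.val ha)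
  obtain ⟨k, l, h2⟩ := cent_u b (Perm.mem_alternatingGroup.1 b.2) (congrArg Subtype.val hb)
  apply Subtype.ext
  show (a : Perm (Fin 6)) * (b : Perm (Fin 6)) = b * a
  rw [h1, h2]
  have c1 : Commute (pu ^ (i : ℕ) * pv ^ (j : ℕ)) (pu ^ (k : ℕ) * pv ^ (l : ℕ)) := by
    refine Commute.mul_left (Commute.mul_right ?_ ?_) (Commute.mul_right ?_ ?_)
    · exact (Commute.refl pu).pow_pow _ _
    · exact huv.pow_pow _ _
    · exact huv.symm.pow_pow _ _
    · exact (Commute.refl pv).pow_pow _ _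
  exact c1.eq

omit hSn in
theorem P_le (A : Al S P e) : P ≤ centralizer (P : Set G) := by
  intro g hg
  rw [mem_centralizer_iff]
  intro h hh
  obtain ⟨a, rfl, ha⟩ := A.exists_el hg
  obtain ⟨b, rfl, hb⟩ := A.exists_el hh
  rw [← el_mul, ← el_mul, comm_P b a hb ha]

/-- odd permutations are not induced -/
theorem inS (A : Al S P e) {n : G} (hn : act e n ∈ NE) : n ∈ S := by
  obtain ⟨σ, hσ⟩ := exists_cn hn
  rcases Int.units_eq_one_or (sign σ) with h | h
  · have h1 : act e (el e ⟨σ, mem_alternatingGroup.2 h⟩) = act e n := by rw [act_el, hσ]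
    rw [← act_inj e A.cent h1]
    exact el_mem _
  · exfalso
    have h1 : swap (3 : Fin 6) 4 * σ⁻¹ ∈ alternatingGroup (Fin 6) := by
      rw [mem_alternatingGroup, map_mul, map_inv, h, sign_swap (by decide)]
      decide
    obtain ⟨m, hm⟩ : ∃ m : G, m = el e ⟨swap (3 : Fin 6) 4 * σ⁻¹, h1⟩ * n := ⟨_, rfl⟩
    have h2 : act e m = cn (swap (3 : Fin 6) 4) := by
      rw [hm, map_mul, act_el, hσ, ← cn_mul]
      show cn (swap (3 : Fin 6) 4 * σ⁻¹ * σ) = _
      rw [inv_mul_cancel_right]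
    have h3 : m * el e u * m⁻¹ = el e u := conj_el (by
      rw [h2]; apply Subtype.ext; rw [cn_coe]; show swap (3 : Fin 6) 4 * pu * (swap (3 : Fin 6) 4)⁻¹ = pu; decide +kernel)
    have h4 : m * el e v * m⁻¹ = el e v⁻¹ := conj_el (by
      rw [h2]; apply Subtype.ext; rw [cn_coe]; show swap (3 : Fin 6) 4 * pv * (swap (3 : Fin 6) 4)⁻¹ = pv⁻¹; decide +kernel)
    have hu : el e u ∈ P := (A.mem_iff u).2 rfl
    have hv : el e v ∈ P := (A.mem_iff v).2 (by apply Subtype.ext; show pv * pu = pu * pv; decide)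
    have hnorm : m ∈ normalizer (P : Set G) := by
      rw [mem_normalizer_iff]
      have key : ∀ x ∈ P, m * x * m⁻¹ ∈ P := by
        intro x hx
        obtain ⟨a, rfl, ha⟩ := A.exists_el hx
        obtain ⟨b, hb⟩ : ∃ b, act e m a = b := ⟨_, rfl⟩
        rw [conj_el hb, A.mem_iff, ← hb]
        have h5 := congrArg (act e m) ha
        have h6 : act e m u = u := act_of h3
        rw [map_mul, map_mul, h6] at h5
        exact h5
      have h3' : m⁻¹ * el e u * (m⁻¹)⁻¹ = el e u := by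
        rw [inv_inv]
        calc m⁻¹ * el e u * m = m⁻¹ * (m * el e u * m⁻¹) * m := by rw [h3]
          _ = el e u := by group
      have key' : ∀ x ∈ P, m⁻¹ * x * (m⁻¹)⁻¹ ∈ P := by
        intro x hx
        obtain ⟨a, rfl, ha⟩ := A.exists_el hx
        obtain ⟨b, hb⟩ : ∃ b, act e m⁻¹ a = b := ⟨_, rfl⟩
        rw [conj_el hb, A.mem_iff, ← hb]
        have h5 := congrArg (act e m⁻¹) ha
        have h6 : act e m⁻¹ u = u := act_of h3'
        rw [map_mul, map_mul, h6] at h5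
        exact h5
      intro x
      constructor
      · exact key x
      · intro hx
        have := key' _ hx
        have h7 : m⁻¹ * (m * x * m⁻¹) * (m⁻¹)⁻¹ = x := by group
        rwa [h7] at this
    have hnc : m ∉ centralizer (P : Set G) := by
      intro hc
      have h5 := mem_centralizer_iff.1 hc _ hv
      have h6 : m * el e v * m⁻¹ = el e v := by rw [← h5]; group
      rw [h4] at h6
      have h7 := congrArg Subtype.val (el_inj h6)
      have h8 : pv⁻¹ = pv := h7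
      revert h8; decide
    have hu1 : el e u ≠ 1 := by
      intro h5
      rw [← el_one (e := e)] at h5
      have h7 : pu = 1 := congrArg Subtype.val (el_inj h5)
      revert h7; decide
    exact A.free.free m hnorm hnc _ hu hu1 h3

omit hSn in
/-- `N(P)` is transitive on `P \ {1}` -/
theorem trans (A : Al S P e) [Finite G] {x : G} (hx : x ∈ P) (hx1 : x ≠ 1) :
    ∃ h ∈ normalizer (P : Set G), h * el e u * h⁻¹ = x := by
  classical
  have hu : el e u ∈ P := (A.mem_iff u).2 rfl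
  have hu1 : el e u ≠ 1 := by
    intro h5
    rw [← el_one (e := e)] at h5
    have h7 : pu = 1 := congrArg Subtype.val (el_inj h5)
    revert h7; decide
  set H := normalizer (P : Set G) with hH
  set K := centralizer (P : Set G) with hK
  let T : Set G := (P : Set G) \ {1}
  have hT : Nat.card T = 8 := by
    rw [Nat.card_coe_set_eq, Set.ncard_sdiff_singleton_of_mem (by exact P.one_mem), ← Nat.card_coe_set_eq]
    have := A.free.card
    show Nat.card P - 1 = 8
    omega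
  have hQ : Nat.card (H ⧸ K.subgroupOf H) = 8 := A.free.ind
  let F : H ⧸ K.subgroupOf H → T := fun q => ⟨(q.out : G) * el e u * (q.out : G)⁻¹,
    (mem_normalizer_iff.1 q.out.2 _).1 hu, fun h => hu1 (by
      have h1 : (q.out : G) * el e u * (q.out : G)⁻¹ = 1 := h
      rwa [mul_inv_eq_one, mul_eq_left] at h1)⟩
  have hF : Function.Injective F := by
    intro q q' hqq
    have h1 : (q.out : G) * el e u * (q.out : G)⁻¹ = (q'.out : G) * el e u * (q'.out : G)⁻¹ :=
      congrArg Subtype.val hqq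
    have h2 : ((q.out⁻¹ * q'.out : H) : G) ∈ K := by
      by_contra hcon
      refine A.free.free _ (q.out⁻¹ * q'.out : H).2 hcon _ hu hu1 ?_
      show (q.out : G)⁻¹ * (q'.out : G) * el e u * ((q.out : G)⁻¹ * (q'.out : G))⁻¹ = el e u
      calc (q.out : G)⁻¹ * (q'.out : G) * el e u * ((q.out : G)⁻¹ * (q'.out : G))⁻¹
          = (q.out : G)⁻¹ * ((q'.out : G) * el e u * (q'.out : G)⁻¹) * (q.out : G) := by group
        _ = (q.out : G)⁻¹ * ((q.out : G) * el e u * (q.out : G)⁻¹) * (q.out : G) := by rw [h1]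
        _ = el e u := by group
    have h3 : (QuotientGroup.mk q.out : H ⧸ K.subgroupOf H) = QuotientGroup.mk q'.out := by
      rw [QuotientGroup.eq]
      exact mem_subgroupOf.2 h2
    rwa [QuotientGroup.out_eq', QuotientGroup.out_eq'] at h3
  have : Finite (H ⧸ K.subgroupOf H) := Quotient.finite _
  have hFs : Function.Surjective F := by
    have hfT : Finite T := inferInstance
    exact ((Nat.bijective_iff_injective_and_card F).2 ⟨hF, by rw [hQ, hT]⟩).2
  obtain ⟨q, hq⟩ := hFs ⟨x, hx, hx1⟩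
  exact ⟨q.out, q.out.2, congrArg Subtype.val hq⟩

end Al

end Cfsg.Agent.H600.SixRow
end

-- part: H600/SixRow/Grp3
section
/-!
# Groups with a normal `A₆`: `PGL₂(9)` and `M₁₀`
-/

set_option autoImplicit false
set_option maxRecDepth 100000

namespace Cfsg.Agent.H600.SixRow

open Equiv Equiv.Perm Subgroup
open Cfsg.Agent.LFourA.AltPsiAut Cfsg.Agent.H629.T9

universe w

variable {G : Type w} [Group G] {S : Subgroup G} [hSn : S.Normal] {P : Subgroup G} {e : S ≃* A6}

theorem u_three : (u : Perm (Fin 6)).IsThreeCycle := u3_three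

theorem cn_mem_NE (σ : Perm (Fin 6)) : cn σ ∈ NE := by
  rw [mem_NE_iff, cn_coe]
  exact isThreeCycle_conj.2 u3_three

theorem three_of_NE {α : MulAut A6} (h : α ∈ NE) : (α u : Perm (Fin 6)).support.card = 3 :=
  (h u u_three).card_support

namespace Al

theorem not_mem_S {g : G} (hg : act e g ∉ NE) : g ∉ S := by
  intro h
  obtain ⟨a, rfl⟩ := exists_el_S (e := e) h
  exact hg (by rw [act_el]; exact cn_mem_NE _)

theorem out (A : Al S P e) [Finite G] : ∃ g, act e g ∉ NE := by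
  have h1 : el e (u * v) ∈ P := (A.mem_iff _).2 (by
    apply Subtype.ext; show pu * pv * pu = pu * (pu * pv); decide)
  have h2 : el e (u * v) ≠ 1 := by
    intro h5
    rw [← el_one (e := e)] at h5
    have h7 : pu * pv = 1 := congrArg Subtype.val (el_inj h5)
    revert h7; decide
  obtain ⟨h, -, hh⟩ := A.trans h1 h2
  refine ⟨h, fun hNE => ?_⟩
  have h3 := three_of_NE hNE
  rw [act_of hh] at h3
  have h4 : (pu * pv).support.card = 3 := h3
  revert h4; decide

theorem index (A : Al S P e) [Finite G] : S.index = 2 := by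
  obtain ⟨g, hg⟩ := A.out
  rw [index_eq_two_iff_exists_notMem_and']
  refine ⟨g⁻¹, fun h => not_mem_S hg (by rwa [inv_mem_iff] at h), fun b => ?_⟩
  by_cases hb : act e b ∈ NE
  · exact Or.inr (A.inS hb)
  · left
    apply A.inS
    rw [map_mul, map_inv]
    exact inv_mul_mem hg hb

theorem card (A : Al S P e) [Finite G] : Nat.card G = 720 := by
  rw [← S.card_mul_index, A.index, Nat.card_congr e.toEquiv, card_six]

theorem cent_U (A : Al S P e) {g : G} (hg : g * el e u = el e u * g) : g ∈ P := by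
  have h1 : g * el e u * g⁻¹ = el e u := by rw [hg]; group
  have h2 : act e g ∈ NE := by
    rw [mem_NE_iff]
    have : act e g u3 = u := act_of h1
    rw [this]
    exact u_three
  obtain ⟨a, rfl⟩ := exists_el_S (e := e) (A.inS h2)
  rw [A.mem_iff]
  rw [← el_mul, ← el_mul] at hg
  exact el_inj hg

theorem card_cent_U (A : Al S P e) : Nat.card (centralizer ({el e u} : Set G)) = 9 := by
  rw [← A.free.card]
  congr 2
  ext g
  rw [mem_centralizer_singleton_iff]
  refine ⟨fun h => A.cent_U h, fun h => ?_⟩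
  exact (mem_centralizer_iff.1 (A.P_le h) _ ((A.mem_iff u).2 rfl)).symm

/-- the two types -/
theorem cases (A : Al S P e) [Finite G] {ε : MulAut A6} (hε : ε ∉ NE) :
    (∀ σ, sign σ = 1 → ∃ g : G, act e g = ε * cn σ) ∨ (∀ σ, sign σ = -1 → ∃ g : G, act e g = ε * cn σ) := by
  obtain ⟨g, hg⟩ := A.out
  obtain ⟨τ, hτ⟩ := exists_cn (inv_mul_mem hε hg)
  have h1 : act e g = ε * cn τ := by rw [← hτ, mul_inv_cancel_left]
  have key : ∀ σ, sign σ = sign τ → ∃ g : G, act e g = ε * cn σ := by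
    intro σ hσ
    have h2 : τ⁻¹ * σ ∈ alternatingGroup (Fin 6) := by
      rw [mem_alternatingGroup, map_mul, map_inv, hσ, inv_mul_cancel]
    refine ⟨g * el e ⟨τ⁻¹ * σ, h2⟩, ?_⟩
    rw [map_mul, h1, act_el, mul_assoc, ← cn_mul]
    show ε * cn (τ * (τ⁻¹ * σ)) = _
    rw [mul_inv_cancel_left]
  rcases Int.units_eq_one_or (sign τ) with h | h
  · left
    intro σ hσ
    exact key σ (by rw [hσ, h])
  · right
    intro σ hσ
    exact key σ (by rw [hσ, h])

end Al

/-- `g` normalises `P` -/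
theorem mem_norm [Finite G] {g : G} (h : ∀ x ∈ P, g * x * g⁻¹ ∈ P) : g ∈ normalizer (P : Set G) := by
  rw [mem_normalizer_iff_map_conj_eq]
  apply Subgroup.eq_of_le_of_card_ge
  · rintro _ ⟨x, hx, rfl⟩
    exact h x hx
  · exact (Nat.card_congr (P.equivMapOfInjective ((MulAut.conj g : MulAut G) : G →* G) (MulAut.conj g).injective).toEquiv).le

theorem cent_form : ∀ σ : Perm (Fin 6), sign σ = 1 → σ * pu = pu * σ → σ ≠ 1 →
    σ = pu ∨ σ = pu⁻¹ * pv⁻¹ ∨ σ = pv⁻¹ ∨ σ = pu⁻¹ * pv ∨ σ = pu⁻¹ ∨ σ = pu * pv ∨ σ = pv ∨ σ = pu * pv⁻¹ := by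
  simp only [↓Cfsg.Agent.PermCode.M, Cfsg.Agent.PermCode.P6.R, Cfsg.Agent.PermCode.B]
  decide +kernel

/-- the orbit of `u` under `ε` -/
theorem orbit_eps {ε : MulAut A6} (hu : ε u = u⁻¹ * v⁻¹) (hv : ε v = u * v⁻¹) {a : A6} (ha : a * u = u * a)
    (ha1 : a ≠ 1) : ∃ k : ℕ, (ε ^ k) u = a := by
  have e1 : (ε ^ 1) u = u⁻¹ * v⁻¹ := by rw [pow_one, hu]
  have e2 : (ε ^ 2) u = v⁻¹ := by
    rw [pow_succ', MulAut.mul_apply, e1, map_mul, map_inv, map_inv, hu, hv]
    apply Subtype.ext; show (pu⁻¹ * pv⁻¹)⁻¹ * (pu * pv⁻¹)⁻¹ = pv⁻¹; decide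
  have e3 : (ε ^ 3) u = u⁻¹ * v := by
    rw [pow_succ', MulAut.mul_apply, e2, map_inv, hv]
    apply Subtype.ext; show (pu * pv⁻¹)⁻¹ = pu⁻¹ * pv; decide
  have e4 : (ε ^ 4) u = u⁻¹ := by
    rw [pow_succ', MulAut.mul_apply, e3, map_mul, map_inv, hu, hv]
    apply Subtype.ext; show (pu⁻¹ * pv⁻¹)⁻¹ * (pu * pv⁻¹) = pu⁻¹; decide
  have e5 : (ε ^ 5) u = u * v := by
    rw [pow_succ', MulAut.mul_apply, e4, map_inv, hu]
    apply Subtype.ext; show (pu⁻¹ * pv⁻¹)⁻¹ = pu * pv; decide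
  have e6 : (ε ^ 6) u = v := by
    rw [pow_succ', MulAut.mul_apply, e5, map_mul, hu, hv]
    apply Subtype.ext; show (pu⁻¹ * pv⁻¹) * (pu * pv⁻¹) = pv; decide
  have e7 : (ε ^ 7) u = u * v⁻¹ := by
    rw [pow_succ', MulAut.mul_apply, e6, hv]
  have e0 : (ε ^ 0) u = u := by rw [pow_zero]; rfl
  have h1 : (a : Perm (Fin 6)) ≠ 1 := fun h => ha1 (Subtype.ext h)
  rcases cent_form a (mem_alternatingGroup.1 a.2) (congrArg Subtype.val ha) h1 with h | h | h | h | h | h | h | h
  · exact ⟨0, by rw [e0]; exact Subtype.ext h.symm⟩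
  · exact ⟨1, by rw [e1]; exact Subtype.ext h.symm⟩
  · exact ⟨2, by rw [e2]; exact Subtype.ext h.symm⟩
  · exact ⟨3, by rw [e3]; exact Subtype.ext h.symm⟩
  · exact ⟨4, by rw [e4]; exact Subtype.ext h.symm⟩
  · exact ⟨5, by rw [e5]; exact Subtype.ext h.symm⟩
  · exact ⟨6, by rw [e6]; exact Subtype.ext h.symm⟩
  · exact ⟨7, by rw [e7]; exact Subtype.ext h.symm⟩

/-- membership in `P` for images of the generators suffices -/
theorem norm_of (A : Al S P e) [Finite G] {g : G} (hu : el e (act e g u) ∈ P) (hv : el e (act e g v) ∈ P) :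
    g ∈ normalizer (P : Set G) := by
  apply mem_norm
  intro x hx
  obtain ⟨a, rfl, ha⟩ := A.exists_el hx
  obtain ⟨i, j, h1⟩ := cent_u a (mem_alternatingGroup.1 a.2) (congrArg Subtype.val ha)
  have h2 : a = u ^ (i : ℕ) * v ^ (j : ℕ) := Subtype.ext h1
  rw [conj_el (b := act e g a) rfl, h2, map_mul, map_pow, map_pow, el_mul, el_pow, el_pow]
  exact P.mul_mem (P.pow_mem hu _) (P.pow_mem hv _)

/-- **`PGL₂(9)`: `N(P) / C(P)` is cyclic.** -/
theorem cyc_of_pgl (A : Al S P e) [Finite G] {ε : MulAut A6} (hu : ε u = u⁻¹ * v⁻¹) (hv : ε v = u * v⁻¹)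
    {g : G} (hg : act e g = ε) : CycE P := by
  have hgn : g ∈ normalizer (P : Set G) := by
    apply norm_of A
    · rw [hg, hu, A.mem_iff]; apply Subtype.ext; show pu⁻¹ * pv⁻¹ * pu = pu * (pu⁻¹ * pv⁻¹); decide
    · rw [hg, hv, A.mem_iff]; apply Subtype.ext; show pu * pv⁻¹ * pu = pu * (pu * pv⁻¹); decide
  refine ⟨g, hgn, fun h hh => ?_⟩
  have hU : el e u ∈ P := (A.mem_iff u).2 rfl
  have h1 : h * el e u * h⁻¹ ∈ P := (mem_normalizer_iff.1 hh _).1 hU
  obtain ⟨a, h2, ha⟩ := A.exists_el h1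
  have ha1 : a ≠ 1 := by
    rintro rfl
    rw [el_one, mul_inv_eq_one, mul_eq_left, ← el_one (e := e)] at h2
    have h7 : pu = 1 := congrArg Subtype.val (el_inj h2)
    revert h7; decide
  obtain ⟨k, hk⟩ := orbit_eps hu hv ha ha1
  refine ⟨k, (g ^ k)⁻¹ * h, A.P_le (A.cent_U ?_), by group⟩
  have h3 : g ^ k * el e u * (g ^ k)⁻¹ = el e a := conj_el (by rw [map_pow, hg, hk])
  rw [← h3] at h2
  calc (g ^ k)⁻¹ * h * el e u = (g ^ k)⁻¹ * (h * el e u * h⁻¹) * h := by group
    _ = (g ^ k)⁻¹ * (g ^ k * el e u * (g ^ k)⁻¹) * h := by rw [h2]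
    _ = el e u * ((g ^ k)⁻¹ * h) := by group

/-- elements of a group with cyclic `N(P) / C(P)` commute on `P` -/
theorem comm_of_cyc {P : Subgroup G} (h : CycE P) {a b x : G} (ha : a ∈ normalizer (P : Set G))
    (hb : b ∈ normalizer (P : Set G)) (hx : x ∈ P) : (a * b) * x * (a * b)⁻¹ = (b * a) * x * (b * a)⁻¹ := by
  obtain ⟨g, hg, hgen⟩ := h
  obtain ⟨i, c, hc, rfl⟩ := hgen a ha
  obtain ⟨j, d, hd, rfl⟩ := hgen b hb
  have hcen : ∀ c ∈ centralizer (P : Set G), ∀ y ∈ P, c * y * c⁻¹ = y := by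
    intro c hc y hy
    rw [← mem_centralizer_iff.1 hc y hy]; group
  have hpow : ∀ k : ℕ, ∀ y ∈ P, g ^ k * y * (g ^ k)⁻¹ ∈ P := by
    intro k y hy
    exact (mem_normalizer_iff.1 (pow_mem hg k) y).1 hy
  have key : ∀ (i j : ℕ) (c d : G), c ∈ centralizer (P : Set G) → d ∈ centralizer (P : Set G) →
      (g ^ i * c * (g ^ j * d)) * x * (g ^ i * c * (g ^ j * d))⁻¹ = g ^ (i + j) * x * (g ^ (i + j))⁻¹ := by
    intro i j c d hc hd
    calc (g ^ i * c * (g ^ j * d)) * x * (g ^ i * c * (g ^ j * d))⁻¹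
        = g ^ i * (c * (g ^ j * (d * x * d⁻¹) * (g ^ j)⁻¹) * c⁻¹) * (g ^ i)⁻¹ := by group
      _ = g ^ i * (c * (g ^ j * x * (g ^ j)⁻¹) * c⁻¹) * (g ^ i)⁻¹ := by rw [hcen d hd x hx]
      _ = g ^ i * (g ^ j * x * (g ^ j)⁻¹) * (g ^ i)⁻¹ := by rw [hcen c hc _ (hpow j x hx)]
      _ = g ^ (i + j) * x * (g ^ (i + j))⁻¹ := by rw [pow_add]; group
  rw [key i j c d hc hd, key j i d c hd hc, add_comm]

/-- **`M₁₀`: `N(P) / C(P)` is not cyclic.** -/
theorem not_cyc_of_m10 (A : Al S P e) [Finite G] {ε : MulAut A6} (hu : ε u = u⁻¹ * v⁻¹) (hv : ε v = u * v⁻¹)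
    {g : G} (hg : act e g = ε * cn (swap (0 : Fin 6) 1)) : ¬ CycE P := by
  intro hcyc
  have c1 : cn (swap (0 : Fin 6) 1) u = u⁻¹ := by
    apply Subtype.ext; rw [cn_coe]; show swap (0 : Fin 6) 1 * pu * (swap (0 : Fin 6) 1)⁻¹ = pu⁻¹; decide
  have c2 : cn (swap (0 : Fin 6) 1) v = v := by
    apply Subtype.ext; rw [cn_coe]; show swap (0 : Fin 6) 1 * pv * (swap (0 : Fin 6) 1)⁻¹ = pv; decide
  have a1 : act e g u = u * v := by
    rw [hg, MulAut.mul_apply, c1, map_inv, hu]
    apply Subtype.ext; show (pu⁻¹ * pv⁻¹)⁻¹ = pu * pv; decide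
  have a2 : act e g v = u * v⁻¹ := by rw [hg, MulAut.mul_apply, c2, hv]
  have hgn : g ∈ normalizer (P : Set G) := by
    apply norm_of A
    · rw [a1, A.mem_iff]; apply Subtype.ext; show pu * pv * pu = pu * (pu * pv); decide
    · rw [a2, A.mem_iff]; apply Subtype.ext; show pu * pv⁻¹ * pu = pu * (pu * pv⁻¹); decide
  set h : A6 := ⟨ph, mem_alternatingGroup.2 ph_sign⟩ with hh
  have b1 : act e (el e h) u = v := by
    rw [act_el]; apply Subtype.ext; rw [cn_coe]; exact ph_u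
  have b2 : act e (el e h) v = u⁻¹ := by
    rw [act_el]; apply Subtype.ext; rw [cn_coe]; exact ph_v
  have hhn : el e h ∈ normalizer (P : Set G) := by
    apply norm_of A
    · rw [b1, A.mem_iff]; apply Subtype.ext; show pv * pu = pu * pv; decide
    · rw [b2, A.mem_iff]; apply Subtype.ext; show pu⁻¹ * pu = pu * pu⁻¹; decide
  have h1 := comm_of_cyc hcyc hgn hhn ((A.mem_iff u).2 rfl)
  have h2 : act e (g * el e h) u = u * v⁻¹ := by rw [map_mul, MulAut.mul_apply, b1, a2]
  have h3 : act e (el e h * g) u = v * u⁻¹ := by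
    rw [map_mul, MulAut.mul_apply, a1, map_mul, b1, b2]
  rw [conj_el h2, conj_el h3] at h1
  have h4 : pu * pv⁻¹ = pv * pu⁻¹ := congrArg Subtype.val (el_inj h1)
  revert h4; decide

/-! ### elements of order five -/

theorem card_cent_y : Nat.card (centralizer ({y} : Set A6)) = 5 := by
  have h := Nat.subtype_card (p := fun x : A6 => x ∈ centralizer ({y} : Set A6))
    (Finset.univ.filter (fun x : A6 => x * y = y * x)) (fun x => by
      rw [Finset.mem_filter, mem_centralizer_singleton_iff]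
      simp)
  refine h.trans ?_
  simp only [↓Cfsg.Agent.PermCode.M, Cfsg.Agent.PermCode.P6.R, Cfsg.Agent.PermCode.B]
  decide +kernel

omit hSn in
theorem card_inf : Nat.card (centralizer ({el e y} : Set G) ⊓ S : Subgroup G) = 5 := by
  rw [← card_cent_y]
  let f : A6 →* G := S.subtype.comp e.symm.toMonoidHom
  have hf : Function.Injective f := fun a b h => e.symm.injective (Subtype.ext h)
  have h1 : (centralizer ({el e y} : Set G) ⊓ S : Subgroup G) = (centralizer ({y} : Set A6)).map f := by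
    ext g
    rw [mem_inf, mem_centralizer_singleton_iff, mem_map]
    constructor
    · rintro ⟨h1, h2⟩
      obtain ⟨a, rfl⟩ := Al.exists_el_S (e := e) h2
      refine ⟨a, ?_, rfl⟩
      rw [← el_mul, ← el_mul] at h1
      exact mem_centralizer_singleton_iff.2 (el_inj h1)
    · rintro ⟨a, ha, rfl⟩
      refine ⟨?_, el_mem a⟩
      show el e a * el e y = el e y * el e a
      rw [← el_mul, ← el_mul, mem_centralizer_singleton_iff.1 ha]
  rw [h1]
  exact (Nat.card_congr ((centralizer ({y} : Set A6)).equivMapOfInjective f hf).toEquiv).symm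

/-- `PGL₂(9)` -/
theorem card_cent_pgl (A : Al S P e) [Finite G] {g : G} (hg : act e g y = y) (hgN : act e g ∉ NE) :
    Nat.card (centralizer ({el e y} : Set G)) = 10 := by
  have hgS : g ∉ S := Al.not_mem_S hgN
  have hgc : g ∈ centralizer ({el e y} : Set G) := by
    rw [mem_centralizer_singleton_iff]
    have := conj_el hg
    rwa [mul_inv_eq_iff_eq_mul] at this
  have h1 : (centralizer ({el e y} : Set G) ⊓ S : Subgroup G).relIndex (centralizer ({el e y} : Set G)) = 2 := by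
    rw [relIndex_eq_two_iff_exists_notMem_and]
    refine ⟨g, hgc, fun h => hgS (mem_inf.1 h).2, fun b hb => ?_⟩
    by_cases hbS : b ∈ S
    · exact Or.inr (mem_inf.2 ⟨hb, hbS⟩)
    · left
      refine mem_inf.2 ⟨mul_mem hb hgc, ?_⟩
      rw [mul_mem_iff_of_index_two A.index]
      tauto
  have h2 := ((centralizer ({el e y} : Set G) ⊓ S : Subgroup G).subgroupOf
    (centralizer ({el e y} : Set G))).card_mul_index
  rw [Nat.card_congr (subgroupOfEquivOfLe inf_le_left).toEquiv, card_inf] at h2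
  have h3 : ((centralizer ({el e y} : Set G) ⊓ S : Subgroup G).subgroupOf
    (centralizer ({el e y} : Set G))).index = 2 := h1
  rw [h3] at h2
  exact h2.symm

/-- `M₁₀` -/
theorem card_cent_m10 (A : Al S P e) [Finite G] {g : G} (hg : act e g y = y ^ 2) (hgN : act e g ∉ NE) :
    Nat.card (centralizer ({el e y} : Set G)) = 5 := by
  have hgS : g ∉ S := Al.not_mem_S hgN
  suffices hh : centralizer ({el e y} : Set G) ≤ S by
    have h0 := card_inf (S := S) (e := e)
    rwa [inf_eq_left.2 hh] at h0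
  intro c hc
  by_contra hcS
  have hcS' : c * g⁻¹ ∈ S := by
    rw [mul_mem_iff_of_index_two A.index, inv_mem_iff]
    tauto
  obtain ⟨a, ha⟩ := Al.exists_el_S (e := e) hcS'
  have h1 := conj_el hg
  have h2 : c * el e y * c⁻¹ = el e y := by
    rw [mem_centralizer_singleton_iff.1 hc]; group
  have h3 : el e a * el e (y ^ 2) * (el e a)⁻¹ = el e y := by
    rw [← ha, ← h1]
    calc c * g⁻¹ * (g * el e y * g⁻¹) * (c * g⁻¹)⁻¹ = c * el e y * c⁻¹ := by group
      _ = el e y := h2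
  rw [← el_inv, ← el_mul, ← el_mul] at h3
  have h4 : (a : Perm (Fin 6)) * py ^ 2 * (a : Perm (Fin 6))⁻¹ = py := (congrArg Subtype.val (el_inj h3) :)
  have h5 := conj_y _ h4
  rw [mem_alternatingGroup.1 a.2] at h5
  revert h5; decide

end Cfsg.Agent.H600.SixRow
end

-- part: H600/SixRow/Num
section
/-!
# The degrees of `PGL₂(9)` and `M₁₀`: arithmetic
-/

set_option autoImplicit false

namespace Cfsg.Agent.H600.SixRow

/-- the degrees -/
def Ks : Finset ℕ := {1, 8, 9, 10, 16, 18, 20}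

/-- the value at the element of order three -/
def wt : ℕ → ℤ
  | 1 => 1
  | 8 => -1
  | 10 => 1
  | 16 => -2
  | 20 => 2
  | _ => 0

theorem deg_cases {d : ℕ} {v : ℤ} (hd : d ∣ 720) (hd1 : d ≠ 1) (hd2 : d ≠ 2) (h26 : d ≤ 26)
    (hv : (d : ℤ) ≡ v [ZMOD 9]) (hv1 : -2 ≤ v) (hv2 : v ≤ 2) : d ∈ Ks ∧ v = wt d := by
  have key : ∀ d : Fin 27, ∀ w : Fin 5, (d : ℕ) ∣ 720 → (d : ℕ) ≠ 1 → (d : ℕ) ≠ 2 →
      ((d : ℕ) : ℤ) % 9 = (((w : ℕ) : ℤ) - 2) % 9 → (d : ℕ) ∈ Ks ∧ ((w : ℕ) : ℤ) - 2 = wt d := by decide +kernel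
  obtain ⟨w, rfl⟩ : ∃ w : Fin 5, v = ((w : ℕ) : ℤ) - 2 :=
    ⟨⟨(v + 2).toNat, by clear hv hd; omega⟩, by clear hv hd; show v = (((v + 2).toNat : ℕ) : ℤ) - 2; omega⟩
  exact key ⟨d, Nat.lt_succ_of_le h26⟩ w hd hd1 hd2 hv

variable {I : Type*} [Fintype I]

theorem sum_by (d : I → ℕ) (hd : ∀ i, d i ∈ Ks) (F : ℕ → ℤ) :
    ∑ i, F (d i) = ∑ k ∈ Ks, ((Finset.univ.filter fun i => d i = k).card : ℤ) * F k := by
  rw [← Finset.sum_fiberwise_of_maps_to (s := Finset.univ) (t := Ks) (g := d) (fun i _ => hd i)]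
  refine Finset.sum_congr rfl fun k _ => ?_
  rw [Finset.sum_congr rfl (g := fun _ => F k) (fun i hi => by rw [(Finset.mem_filter.1 hi).2]), Finset.sum_const,
    nsmul_eq_mul]

theorem sum_Ks (f : ℕ → ℤ) : ∑ k ∈ Ks, f k = f 1 + f 8 + f 9 + f 10 + f 16 + f 18 + f 20 := by
  unfold Ks
  rw [Finset.sum_insert (by decide), Finset.sum_insert (by decide), Finset.sum_insert (by decide),
    Finset.sum_insert (by decide), Finset.sum_insert (by decide), Finset.sum_insert (by decide),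
    Finset.sum_singleton]
  ring

theorem arith_Ks (n8 n9 n10 n16 n18 n20 m : ℕ)
    (t1 : (720 : ℤ) = ((2 : ℕ) : ℤ) * ((1 : ℕ) : ℤ) ^ 2 + (n8 : ℤ) * ((8 : ℕ) : ℤ) ^ 2 + (n9 : ℤ) * ((9 : ℕ) : ℤ) ^ 2 +
      (n10 : ℤ) * ((10 : ℕ) : ℤ) ^ 2 + (n16 : ℤ) * ((16 : ℕ) : ℤ) ^ 2 + (n18 : ℤ) * ((18 : ℕ) : ℤ) ^ 2 +
      (n20 : ℤ) * ((20 : ℕ) : ℤ) ^ 2)
    (t2 : (9 : ℤ) = ((2 : ℕ) : ℤ) * wt 1 ^ 2 + (n8 : ℤ) * wt 8 ^ 2 + (n9 : ℤ) * wt 9 ^ 2 +
      (n10 : ℤ) * wt 10 ^ 2 + (n16 : ℤ) * wt 16 ^ 2 + (n18 : ℤ) * wt 18 ^ 2 + (n20 : ℤ) * wt 20 ^ 2)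
    (t3 : (0 : ℤ) = ((2 : ℕ) : ℤ) * (((1 : ℕ) : ℤ) * wt 1) + (n8 : ℤ) * (((8 : ℕ) : ℤ) * wt 8) +
      (n9 : ℤ) * (((9 : ℕ) : ℤ) * wt 9) + (n10 : ℤ) * (((10 : ℕ) : ℤ) * wt 10) +
      (n16 : ℤ) * (((16 : ℕ) : ℤ) * wt 16) + (n18 : ℤ) * (((18 : ℕ) : ℤ) * wt 18) +
      (n20 : ℤ) * (((20 : ℕ) : ℤ) * wt 20))
    (t4 : (m : ℤ) = ((2 : ℕ) : ℤ) * (if 5 ∣ 1 then (0 : ℤ) else 1) + (n8 : ℤ) * (if 5 ∣ 8 then (0 : ℤ) else 1) +
      (n9 : ℤ) * (if 5 ∣ 9 then (0 : ℤ) else 1) + (n10 : ℤ) * (if 5 ∣ 10 then (0 : ℤ) else 1) +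
      (n16 : ℤ) * (if 5 ∣ 16 then (0 : ℤ) else 1) + (n18 : ℤ) * (if 5 ∣ 18 then (0 : ℤ) else 1) +
      (n20 : ℤ) * (if 5 ∣ 20 then (0 : ℤ) else 1)) :
    n18 = 0 ∧ n20 = 0 ∧ ((n16 = 0 ∧ 8 ≤ m) ∨ n16 = 1) := by
  simp only [wt] at t2 t3
  norm_num at t1 t2 t3 t4
  have b : n20 = 0 := by clear t1 t4; omega
  subst b
  have c : n16 = 0 ∧ n8 = 4 ∧ n10 = 3 ∨ n16 = 1 ∧ n8 = 0 ∧ n10 = 3 := by clear t1 t4; omega
  rcases c with ⟨rfl, rfl, rfl⟩ | ⟨rfl, rfl, rfl⟩
  · clear t2 t3; omega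
  · clear t2 t3; omega

/-- the counting argument -/
theorem counts (d : I → ℕ) (v : I → ℤ) (hdvd : ∀ i, d i ∣ 720) (h2 : ∀ i, d i ≠ 2)
    (hmod : ∀ i, (d i : ℤ) ≡ v i [ZMOD 9]) (h1 : (Finset.univ.filter fun i => d i = 1).card = 2)
    (hv1 : ∀ i, d i = 1 → v i = 1) (s1 : ∑ i, (d i : ℤ) ^ 2 = 720) (s2 : ∑ i, v i ^ 2 = 9)
    (s3 : ∑ i, (d i : ℤ) * v i = 0) :
    (∀ i, d i = 1 ∨ d i = 8 ∨ d i = 9 ∨ d i = 10 ∨ d i = 16) ∧
    (((Finset.univ.filter fun i => d i = 16).card = 0 ∧ 8 ≤ (Finset.univ.filter fun i => ¬ 5 ∣ d i).card) ∨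
      (Finset.univ.filter fun i => d i = 16).card = 1) := by
  classical
  have h26 : ∀ i, d i ≤ 26 := by
    intro i
    have h3 : (d i : ℤ) ^ 2 ≤ 720 := by
      rw [← s1]
      exact Finset.single_le_sum (f := fun i => (d i : ℤ) ^ 2) (fun i _ => sq_nonneg _) (Finset.mem_univ i)
    have h4 : (d i : ℤ) ≤ 26 := by nlinarith
    exact_mod_cast h4
  have hall : ∀ i, d i ∈ Ks ∧ v i = wt (d i) := by
    intro i
    by_cases hi : d i = 1
    · rw [hi, hv1 i hi]
      decide
    · have h3 : v i ^ 2 + 2 ≤ 9 := by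
        have h4 : ∑ j ∈ insert i (Finset.univ.filter fun j => d j = 1), v j ^ 2 ≤ 9 := by
          rw [← s2]
          exact Finset.sum_le_sum_of_subset_of_nonneg (Finset.subset_univ _) (fun j _ _ => sq_nonneg _)
        rw [Finset.sum_insert (by simp [hi])] at h4
        have h5 : ∑ j ∈ Finset.univ.filter (fun j => d j = 1), v j ^ 2 = 2 := by
          rw [Finset.sum_congr rfl (g := fun _ => (1 : ℤ)) (fun j hj => by
            rw [hv1 j (Finset.mem_filter.1 hj).2]; norm_num), Finset.sum_const, h1]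
          norm_num
        omega
      have h4 : -2 ≤ v i := by nlinarith
      have h5 : v i ≤ 2 := by nlinarith
      exact deg_cases (hdvd i) hi (h2 i) (h26 i) (hmod i) h4 h5
  have hK := fun i => (hall i).1
  have t1 : ∑ i, (d i : ℤ) ^ 2 = _ := sum_by d hK (fun k => (k : ℤ) ^ 2)
  have t2 : ∑ i, v i ^ 2 = _ := (Finset.sum_congr rfl fun i _ => by rw [(hall i).2]).trans
    (sum_by d hK (fun k => wt k ^ 2))
  have t3 : ∑ i, (d i : ℤ) * v i = _ := (Finset.sum_congr rfl fun i _ => by rw [(hall i).2]).trans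
    (sum_by d hK (fun k => (k : ℤ) * wt k))
  have t4 : ((Finset.univ.filter fun i => ¬ 5 ∣ d i).card : ℤ) =
      ∑ k ∈ Ks, ((Finset.univ.filter fun i => d i = k).card : ℤ) * (if 5 ∣ k then (0 : ℤ) else 1) := by
    have h3 : ((Finset.univ.filter fun i => ¬ 5 ∣ d i).card : ℤ) = ∑ i, (if 5 ∣ d i then (0 : ℤ) else 1) := by
      rw [Finset.card_filter]
      push_cast
      refine Finset.sum_congr rfl fun i _ => ?_
      split_ifs <;> simp_all
    exact h3.trans (sum_by d hK (fun k => if 5 ∣ k then (0 : ℤ) else 1))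
  rw [s1] at t1
  rw [s2] at t2
  rw [s3] at t3
  rw [sum_Ks] at t1 t2 t3 t4
  rw [h1] at t1 t2 t3 t4
  obtain ⟨k18, k20, kk⟩ := arith_Ks _ _ _ _ _ _ _ t1 t2 t3 t4
  refine ⟨fun i => ?_, kk⟩
  have h3 := hK i
  simp only [Ks, Finset.mem_insert, Finset.mem_singleton] at h3
  have h18 : d i ≠ 18 := fun h => by
    have := Finset.card_eq_zero.1 k18
    have h4 : i ∈ (Finset.univ.filter fun i => d i = 18) := Finset.mem_filter.2 ⟨Finset.mem_univ _, h⟩
    rw [this] at h4
    exact absurd h4 (Finset.notMem_empty _)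
  have h20 : d i ≠ 20 := fun h => by
    have := Finset.card_eq_zero.1 k20
    have h4 : i ∈ (Finset.univ.filter fun i => d i = 20) := Finset.mem_filter.2 ⟨Finset.mem_univ _, h⟩
    rw [this] at h4
    exact absurd h4 (Finset.notMem_empty _)
  omega

end Cfsg.Agent.H600.SixRow
end

-- part: H600/SixRow/Chr
section
/-!
# Characters of the groups with a normal `A₆`
-/

set_option autoImplicit false
set_option maxRecDepth 100000

open scoped ComplexConjugate commutatorElement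
open Cfsg Subgroup Equiv Equiv.Perm

namespace Cfsg.Agent.H600.SixRow

open Cfsg.Agent.LFourA.AltPsiAut Cfsg.Agent.H629.T9 Cfsg.Agent.Characters.Core

universe w

section gen

variable {G : Type w} [Group G] [Finite G]

/-- the only irreducible character of its degree has integer values -/
theorem int_of_unique {χ : IrrCharacter G}
    (h : ∀ ψ : IrrCharacter G, (ψ : G → ℂ) 1 = (χ : G → ℂ) 1 → ψ = χ) (g : G) : ∃ k : ℤ, (χ : G → ℂ) g = k := by
  refine Characters.Galois.exists_int_of_forall_ringEquiv (CharactersDeep.ModCongr.isIntegral_irr χ.2 g) fun σ => ?_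
  have h1 := h ⟨_, Characters.GaloisIrr.isIrr_map σ χ.2⟩ (by
    show σ ((χ : G → ℂ) 1) = (χ : G → ℂ) 1
    rw [Blocks.Basic.irr_one_eq_charDegree χ.2, map_natCast])
  exact congrFun (congrArg Subtype.val h1) g

theorem dvd_sub_of_int {p : ℕ} (hp : p.Prime) (χ : IrrCharacter G) {g : G} (hg : ∃ k : ℕ, orderOf g = p ^ k)
    {k : ℤ} (hk : (χ : G → ℂ) g = k) : (p : ℤ) ∣ k - (charDegree (χ : G → ℂ) : ℤ) := by
  obtain ⟨M, hM⟩ := Blocks.ExistsModular.exists_isPModular hp
  have h1 := CharactersDeep.ModCongr.memLocalIdeal_character_sub hM χ.2 g g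
    ⟨1, mul_one g, Commute.one_right g, hg, by rw [orderOf_one]; exact fun h => hp.one_lt.ne' (Nat.dvd_one.1 h)⟩
  rw [inv_mul_cancel, hk, Blocks.Basic.irr_one_eq_charDegree χ.2] at h1
  have h2 : ((k : ℂ) - (charDegree (χ : G → ℂ) : ℂ)) = ((k - (charDegree (χ : G → ℂ) : ℤ) : ℤ) : ℂ) := by
    push_cast; rfl
  rw [h2, Blocks.Local.memLocalIdeal_intCast_iff hM] at h1
  exact h1

theorem sum_normSq [Fintype (IrrCharacter G)] (g : G) :
    ∑ χ : IrrCharacter G, Complex.normSq ((χ : G → ℂ) g) = (Nat.card (centralizer ({g} : Set G)) : ℝ) := by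
  classical
  have := Fintype.ofFinite G
  have h := S0145.sum_irr_mul_conj g g
  rw [if_pos (IsConj.refl g)] at h
  have h2 : ∀ χ : IrrCharacter G, (χ : G → ℂ) g * conj ((χ : G → ℂ) g) = (Complex.normSq ((χ : G → ℂ) g) : ℂ) :=
    fun χ => Complex.mul_conj _
  rw [Finset.sum_congr rfl fun χ _ => h2 χ, ← Complex.ofReal_sum] at h
  exact_mod_cast h

/-- the number of linear characters -/
theorem card_linear [Fintype (IrrCharacter G)] :
    (Finset.univ.filter fun χ : IrrCharacter G => charDegree (χ : G → ℂ) = 1).card = (commutator G).index := by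
  rw [← Characters.Linear.card_hom_eq_index_commutator G, ← Nat.card_congr (Characters.Linear.linearEquiv G).symm]
  rw [← Nat.subtype_card (p := fun χ : IrrCharacter G => (χ : G → ℂ) 1 = 1)
    (Finset.univ.filter fun χ : IrrCharacter G => charDegree (χ : G → ℂ) = 1)]
  intro χ
  rw [Finset.mem_filter, Blocks.Basic.irr_one_eq_charDegree χ.2]
  simp

end gen

variable {G : Type w} [Group G] [Finite G] {S : Subgroup G} [hSn : S.Normal] {P : Sylow 3 G} {e : S ≃* A6}

theorem comm_eq (A : Al S (P : Subgroup G) e) [IsSimpleGroup S] (hna : ¬ IsMulCommutative S) : commutator G = S := by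
  apply le_antisymm
  · rw [_root_.commutator_def, commutator_le]
    intro x _ z _
    rw [commutatorElement_def]
    simp only [mul_mem_iff_of_index_two A.index, inv_mem_iff]
    tauto
  · have h1 : commutator S = ⊤ := by
      rcases (inferInstance : (commutator S).Normal).eq_bot_or_eq_top with h | h
      · exfalso
        apply hna
        refine ⟨⟨fun a b => ?_⟩⟩
        have h2 : ⁅a, b⁆ ∈ commutator S := by
          rw [_root_.commutator_def]
          exact commutator_mem_commutator (mem_top a) (mem_top b)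
        rw [h, mem_bot, commutatorElement_eq_one_iff_mul_comm] at h2
        exact h2
      · exact h
    have h2 := Subgroup.map_subtype_commutator S
    rw [h1, ← MonoidHom.range_eq_map, range_subtype] at h2
    have h3 : ⁅S, S⁆ ≤ commutator G := by
      rw [_root_.commutator_def]
      exact commutator_mono le_top le_top
    calc S = ⁅S, S⁆ := h2
      _ ≤ _ := h3

/-- no character of degree two -/
theorem ne_two (A : Al S (P : Subgroup G) e) [IsSimpleGroup S] (hna : ¬ IsMulCommutative S) (χ : IrrCharacter G) :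
    charDegree (χ : G → ℂ) ≠ 2 := by
  classical
  intro h2
  have hna' : ¬ ∀ a b : S, a * b = b * a := fun h => hna ⟨⟨h⟩⟩
  have := Fintype.ofFinite G
  have := Fintype.ofFinite S
  have := finite_irr (G := S)
  have := Fintype.ofFinite (IrrCharacter S)
  have hχ1 : (χ : G → ℂ) 1 = 2 := by rw [Blocks.Basic.irr_one_eq_charDegree χ.2, h2]; norm_num
  obtain ⟨m, hm⟩ := exists_nat_comb (isCharacter_comp S.subtype (isIrr_isCharacter χ.2))
  have hval : ∀ s : S, (χ : G → ℂ) s = ∑ θ : IrrCharacter S, (m θ : ℂ) * (θ : S → ℂ) s := by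
    intro s
    have h3 := congrFun hm s
    simpa [Finset.sum_apply] using h3
  -- all constituents are trivial
  have hone : ∀ θ : IrrCharacter S, m θ ≠ 0 → (θ : S → ℂ) = 1 := by
    intro θ hθ
    have h3 : charDegree (θ : S → ℂ) ≤ 2 := by
      have h4 := hval 1
      rw [OneMemClass.coe_one, hχ1] at h4
      have h5 : ((2 : ℕ) : ℂ) = ((∑ θ : IrrCharacter S, m θ * charDegree (θ : S → ℂ) : ℕ) : ℂ) := by
        push_cast
        rw [h4]
        exact Finset.sum_congr rfl fun θ _ => by rw [Blocks.Basic.irr_one_eq_charDegree θ.2]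
      have h6 : 2 = ∑ θ : IrrCharacter S, m θ * charDegree (θ : S → ℂ) := by exact_mod_cast h5
      have h7 : m θ * charDegree (θ : S → ℂ) ≤ 2 := by
        rw [h6]
        exact Finset.single_le_sum (f := fun θ : IrrCharacter S => m θ * charDegree (θ : S → ℂ))
          (fun _ _ => Nat.zero_le _) (Finset.mem_univ θ)
      nlinarith [Nat.pos_of_ne_zero hθ, Nat.zero_le (charDegree (θ : S → ℂ))]
    have h4 : charDegree (θ : S → ℂ) ≠ 2 := fun h =>
      H681.SimpleChar.degree_ne_two hna' ⟨θ, h⟩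
    have h5 : charDegree (θ : S → ℂ) ≠ 0 := by
      intro h
      apply isIrr_apply_one_ne_zero θ.2
      rw [Blocks.Basic.irr_one_eq_charDegree θ.2, h]; norm_num
    have h6 : charDegree (θ : S → ℂ) = 1 := by omega
    exact H681.SimpleChar.eq_one_of_degree_one hna' θ.2 (by
      rw [Blocks.Basic.irr_one_eq_charDegree θ.2, h6]; norm_num)
  have hconst : ∀ s : S, (χ : G → ℂ) s = 2 := by
    intro s
    rw [← hχ1, ← OneMemClass.coe_one S, hval, hval]
    refine Finset.sum_congr rfl fun θ _ => ?_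
    by_cases hθ : m θ = 0
    · rw [hθ]; simp
    · rw [hone θ hθ]; rfl
  -- norms
  have h3 := classInner_irr_self χ.2
  rw [classInner_def] at h3
  have h4 : ∑ g : G, (χ : G → ℂ) g * conj ((χ : G → ℂ) g) = (Nat.card G : ℂ) := by
    have h5 : (Nat.card G : ℂ) ≠ 0 := by exact_mod_cast Nat.card_pos.ne'
    field_simp at h3
    exact h3
  have h5 : ∑ g : G, Complex.normSq ((χ : G → ℂ) g) = (Nat.card G : ℝ) := by
    have h6 : ∀ g : G, (χ : G → ℂ) g * conj ((χ : G → ℂ) g) = (Complex.normSq ((χ : G → ℂ) g) : ℂ) :=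
      fun g => Complex.mul_conj _
    rw [Finset.sum_congr rfl fun g _ => h6 g, ← Complex.ofReal_sum] at h4
    exact_mod_cast h4
  have h6 : ∑ s : S, Complex.normSq ((χ : G → ℂ) s) ≤ ∑ g : G, Complex.normSq ((χ : G → ℂ) g) := by
    have h7 : ∑ s : S, Complex.normSq ((χ : G → ℂ) s) =
        ∑ g ∈ Finset.univ.map ⟨fun s : S => (s : G), Subtype.val_injective⟩, Complex.normSq ((χ : G → ℂ) g) := by
      rw [Finset.sum_map]
      rfl
    rw [h7]
    exact Finset.sum_le_sum_of_subset_of_nonneg (Finset.subset_univ _) (fun g _ _ => Complex.normSq_nonneg _)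
  rw [h5, A.card, Finset.sum_congr rfl (g := fun _ => (4 : ℝ)) (fun s _ => by
    rw [hconst]; norm_num [Complex.normSq_apply]), Finset.sum_const, Finset.card_univ, ← Nat.card_eq_fintype_card,
    Nat.card_congr e.toEquiv, card_six] at h6
  norm_num at h6

omit [Finite G] hSn in
theorem orderOf_el {a : A6} {p : ℕ} [Fact p.Prime] (h : a ^ p = 1) (h1 : a ≠ 1) : orderOf (el e a) = p := by
  refine orderOf_eq_prime (by rw [← el_pow, h, el_one]) fun h2 => h1 (el_inj (e := e) (by rw [h2, el_one]))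

end Cfsg.Agent.H600.SixRow
end

-- part: H600/SixRow/Main
section
/-!
# S4876, T9: the row `GRow A₆` (`M₁₀` and `PGL₂(9)`)
-/

set_option autoImplicit false
set_option maxRecDepth 100000

open scoped ComplexConjugate commutatorElement
open Cfsg Subgroup Equiv Equiv.Perm

namespace Cfsg.Agent.H600.SixRow

open Cfsg.Agent.LFourA.AltPsiAut Cfsg.Agent.H629.T9 Cfsg.Agent.Characters.Core

universe w

variable {G : Type w} [Group G] [Finite G] {S : Subgroup G} [hSn : S.Normal] {P : Sylow 3 G} {e : S ≃* A6}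

/-- the degrees -/
theorem degrees (A : Al S (P : Subgroup G) e) [IsSimpleGroup S] (hna : ¬ IsMulCommutative S)
    [Fintype (IrrCharacter G)] :
    (∀ χ : IrrCharacter G, charDegree (χ : G → ℂ) = 1 ∨ charDegree (χ : G → ℂ) = 8 ∨ charDegree (χ : G → ℂ) = 9 ∨
      charDegree (χ : G → ℂ) = 10 ∨ charDegree (χ : G → ℂ) = 16) ∧
    (((Finset.univ.filter fun χ : IrrCharacter G => charDegree (χ : G → ℂ) = 16).card = 0 ∧
        8 ≤ (Finset.univ.filter fun χ : IrrCharacter G => ¬ 5 ∣ charDegree (χ : G → ℂ)).card) ∨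
      (Finset.univ.filter fun χ : IrrCharacter G => charDegree (χ : G → ℂ) = 16).card = 1) := by
  classical
  have := Fintype.ofFinite G
  have hp3 : Fact (Nat.Prime 3) := ⟨Nat.prime_three⟩
  have hPc : Nat.card (P : Subgroup G) = 9 := A.free.card
  have hU : el e u ∈ (P : Subgroup G) := (A.mem_iff u).2 rfl
  have hu3 : u ^ 3 = 1 := by apply Subtype.ext; show pu ^ 3 = 1; decide
  have hu1 : u ≠ 1 := by
    intro h
    have h7 : pu = 1 := congrArg Subtype.val h
    revert h7; decide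
  have hU1 : el e u ≠ 1 := fun h => hu1 (el_inj (e := e) (by rw [h, el_one]))
  have hoU : orderOf (el e u) = 3 := orderOf_el hu3 hu1
  -- values
  have hint : ∀ χ : IrrCharacter G, ∃ v : ℤ, (χ : G → ℂ) (el e u) = v := by
    intro χ
    refine J3Type.CharTools.int_of_conj (isIrr_isCharacter χ.2) _ fun m hm => ?_
    rw [hoU] at hm
    have h1 : el e u ^ m ≠ 1 := by
      intro h
      have h2 := orderOf_dvd_of_pow_eq_one h
      rw [hoU] at h2
      have h3 := Nat.Coprime.symm hm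
      rw [Nat.Prime.coprime_iff_not_dvd Nat.prime_three] at h3
      exact h3 h2
    obtain ⟨n, -, hn⟩ := A.trans (pow_mem hU m) h1
    exact isConj_iff.2 ⟨n, hn⟩
  choose v hv using hint
  have hconst : ∀ (χ : IrrCharacter G), ∀ x ∈ (P : Subgroup G), x ≠ 1 → (χ : G → ℂ) x = v χ := by
    intro χ x hx hx1
    obtain ⟨n, -, hn⟩ := A.trans hx hx1
    rw [← hn, isIrr_isClassFunction χ.2 _ n, hv]
  have hdeg : ∀ χ : IrrCharacter G, (charDegree (χ : G → ℂ) : ℤ) ≡ v χ [ZMOD 9] := by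
    intro ζ
    have := Fintype.ofFinite (P : Subgroup G)
    have h1 : IsCharacter (P : Subgroup G) (fun y : (P : Subgroup G) => (ζ : G → ℂ) y) :=
      isCharacter_comp (P : Subgroup G).subtype (isIrr_isCharacter ζ.2)
    obtain ⟨n, hn⟩ := classInner_isNat h1
      (isIrr_isCharacter (Blocks.Basic.isIrrCharacter_one (G := (P : Subgroup G))))
    unfold classInner at hn
    rw [hPc] at hn
    simp only [map_one, mul_one] at hn
    rw [← Finset.add_sum_erase _ _ (Finset.mem_univ (1 : (P : Subgroup G)))] at hn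
    have h2 : ∑ y ∈ Finset.univ.erase (1 : (P : Subgroup G)), (ζ : G → ℂ) (y : G) = 8 * (v ζ : ℂ) := by
      have hcs : ∀ y ∈ Finset.univ.erase (1 : (P : Subgroup G)), (ζ : G → ℂ) (y : G) = (v ζ : ℂ) :=
        fun y hy => hconst ζ y y.2 fun h => (Finset.mem_erase.1 hy).1 (Subtype.ext h)
      rw [Finset.sum_congr rfl hcs]
      rw [Finset.sum_const, Finset.card_erase_of_mem (Finset.mem_univ _), Finset.card_univ,
        ← Nat.card_eq_fintype_card, hPc]
      simp
    rw [h2, OneMemClass.coe_one, Blocks.Basic.irr_one_eq_charDegree ζ.2] at hn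
    have h3 : ((charDegree (ζ : G → ℂ) : ℤ) : ℂ) + 8 * (v ζ : ℂ) = 9 * ((n : ℤ) : ℂ) := by
      push_cast at hn ⊢
      rw [← hn]
      field_simp
    have h4 : (charDegree (ζ : G → ℂ) : ℤ) + 8 * v ζ = 9 * n := by exact_mod_cast h3
    unfold Int.ModEq
    omega
  have hcomm := comm_eq A hna
  refine counts (fun χ : IrrCharacter G => charDegree (χ : G → ℂ)) v ?_ ?_ hdeg ?_ ?_ ?_ ?_ ?_
  · intro χ
    have h1 := H681.DegBasic.dvd_card (G := G) (n := charDegree (χ : G → ℂ)) ⟨χ, rfl⟩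
    rwa [A.card] at h1
  · exact fun χ => ne_two A hna χ
  · rw [card_linear, hcomm, A.index]
  · intro χ hχ
    obtain ⟨f, hf⟩ := Characters.Linear.exists_hom_of_isIrrCharacter χ.2 (by
      rw [Blocks.Basic.irr_one_eq_charDegree χ.2, hχ]; norm_num)
    have h1 : f (el e u) = 1 := by
      have h2 : el e u ∈ commutator G := by rw [hcomm]; exact el_mem _
      exact Abelianization.commutator_subset_ker f h2
    have h2 := hv χ
    rw [hf] at h2
    simp only [h1, Units.val_one] at h2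
    exact_mod_cast h2.symm
  · have h1 := Characters.Counting.sum_irr_one_mul (1 : G)
    rw [if_pos rfl, A.card] at h1
    have h2 : ((∑ χ : IrrCharacter G, (charDegree (χ : G → ℂ) : ℤ) ^ 2 : ℤ) : ℂ) = ((720 : ℤ) : ℂ) := by
      push_cast
      refine Eq.trans ?_ (h1.trans (by norm_num))
      exact Finset.sum_congr rfl fun χ _ => by rw [Blocks.Basic.irr_one_eq_charDegree χ.2]; ring
    exact_mod_cast h2
  · have h1 := sum_normSq (el e u)
    rw [A.card_cent_U] at h1
    have h2 : ((∑ χ : IrrCharacter G, v χ ^ 2 : ℤ) : ℝ) = ((9 : ℤ) : ℝ) := by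
      push_cast
      refine Eq.trans ?_ (h1.trans (by norm_num))
      refine Finset.sum_congr rfl fun χ _ => ?_
      rw [hv, Complex.normSq_intCast]
      ring
    exact_mod_cast h2
  · have h1 := Characters.Counting.sum_irr_one_mul (el e u)
    rw [if_neg hU1] at h1
    have h2 : ((∑ χ : IrrCharacter G, (charDegree (χ : G → ℂ) : ℤ) * v χ : ℤ) : ℂ) = ((0 : ℤ) : ℂ) := by
      push_cast
      refine Eq.trans ?_ (h1.trans (by norm_num))
      exact Finset.sum_congr rfl fun χ _ => by rw [Blocks.Basic.irr_one_eq_charDegree χ.2, hv]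
    exact_mod_cast h2

theorem hy5 : y ^ 5 = 1 := by apply Subtype.ext; show py ^ 5 = 1; decide +kernel

theorem hy1 : y ≠ 1 := by
  intro h
  have h7 : py = 1 := congrArg Subtype.val h
  revert h7; decide

/-- `PGL₂(9)` has no character of degree 16 -/
theorem no_sixteen (A : Al S (P : Subgroup G) e) [Fintype (IrrCharacter G)]
    (hc : Nat.card (centralizer ({el e y} : Set G)) = 10)
    (h1 : (Finset.univ.filter fun χ : IrrCharacter G => charDegree (χ : G → ℂ) = 16).card = 1) : False := by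
  classical
  have := Fintype.ofFinite G
  have hp5 : Fact (Nat.Prime 5) := ⟨Nat.prime_five⟩
  obtain ⟨χ, hχ⟩ := Finset.card_eq_one.1 h1
  have hχ16 : charDegree (χ : G → ℂ) = 16 := by
    have : χ ∈ (Finset.univ.filter fun χ : IrrCharacter G => charDegree (χ : G → ℂ) = 16) := by
      rw [hχ]; exact Finset.mem_singleton_self _
    exact (Finset.mem_filter.1 this).2
  obtain ⟨b, hb⟩ := int_of_unique (χ := χ) (fun ψ hψ => by
    rw [Blocks.Basic.irr_one_eq_charDegree ψ.2, Blocks.Basic.irr_one_eq_charDegree χ.2, hχ16] at hψ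
    have h2 : charDegree (ψ : G → ℂ) = 16 := by exact_mod_cast hψ
    have : ψ ∈ (Finset.univ.filter fun χ : IrrCharacter G => charDegree (χ : G → ℂ) = 16) :=
      Finset.mem_filter.2 ⟨Finset.mem_univ _, h2⟩
    rw [hχ] at this
    exact Finset.mem_singleton.1 this) (el e y)
  have h2 := dvd_sub_of_int Nat.prime_five χ ⟨1, by rw [pow_one]; exact orderOf_el hy5 hy1⟩ hb
  rw [hχ16] at h2
  have h3 : (b : ℝ) ^ 2 ≤ 10 := by
    have h4 := sum_normSq (el e y)
    rw [hc] at h4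
    have h5 : Complex.normSq ((χ : G → ℂ) (el e y)) ≤
        ∑ χ : IrrCharacter G, Complex.normSq ((χ : G → ℂ) (el e y)) :=
      Finset.single_le_sum (f := fun χ : IrrCharacter G => Complex.normSq ((χ : G → ℂ) (el e y)))
        (fun _ _ => Complex.normSq_nonneg _) (Finset.mem_univ χ)
    rw [h4, hb, Complex.normSq_intCast] at h5
    rw [pow_two]
    exact_mod_cast h5
  have h4 : b ^ 2 ≤ 10 := by exact_mod_cast h3
  have h5 : -4 < b := by nlinarith
  have h6 : b < 4 := by nlinarith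
  have h7 : b = 1 := by push_cast at h2; omega
  -- the central character
  obtain ⟨n, ρ, hρ, hρχ⟩ := χ.2
  have h8 := Characters.CentralCharacter.isIntegral_index_mul_character_div ρ (el e y)
  have h9 : (centralizer ({el e y} : Set G)).index = 72 := by
    have h10 := (centralizer ({el e y} : Set G)).card_mul_index
    rw [hc, A.card] at h10
    omega
  have h10 : (Module.finrank ℂ (Fin n → ℂ) : ℂ) = 16 := by
    rw [← Representation.char_one ρ, hρχ, Blocks.Basic.irr_one_eq_charDegree χ.2, hχ16]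
    norm_num
  rw [h9, hρχ, hb, h7, h10] at h8
  have h12 : (((72 : ℕ) : ℂ) / ((16 : ℕ) : ℂ)) = ((72 : ℕ) : ℂ) * ((1 : ℤ) : ℂ) / 16 := by push_cast; ring
  have h11 := Characters.DegreeBounds.nat_dvd_of_isIntegral_div (m := 72) (n := 16) (by norm_num) (by
    rw [h12]; exact h8)
  revert h11
  decide

/-- `M₁₀` has few characters of `5'`-degree -/
theorem few_five [Fintype (IrrCharacter G)]
    (hc : Nat.card (centralizer ({el e y} : Set G)) = 5) {g : G} (hg : act e g y = y ^ 2) :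
    (Finset.univ.filter fun χ : IrrCharacter G => ¬ 5 ∣ charDegree (χ : G → ℂ)).card ≤ 5 := by
  classical
  have hp5 : Fact (Nat.Prime 5) := ⟨Nat.prime_five⟩
  have ho : orderOf (el e y) = 5 := orderOf_el hy5 hy1
  have hg1 : g * el e y * g⁻¹ = el e y ^ 2 := by rw [conj_el hg, el_pow]
  have hgk : ∀ k : ℕ, g ^ k * el e y * (g ^ k)⁻¹ = el e y ^ (2 ^ k) := by
    intro k
    induction k with
    | zero => simp
    | succ k ih =>
      calc g ^ (k + 1) * el e y * (g ^ (k + 1))⁻¹ = g * (g ^ k * el e y * (g ^ k)⁻¹) * g⁻¹ := by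
            rw [pow_succ']; group
        _ = (g * el e y * g⁻¹) ^ (2 ^ k) := by rw [ih, conj_pow]
        _ = el e y ^ (2 ^ (k + 1)) := by rw [hg1, ← pow_mul, pow_succ']
  have hint : ∀ χ : IrrCharacter G, ∃ v : ℤ, (χ : G → ℂ) (el e y) = v := by
    intro χ
    refine J3Type.CharTools.int_of_conj (isIrr_isCharacter χ.2) _ fun m hm => ?_
    rw [ho] at hm
    have h1 : el e y ^ m = el e y ^ (m % 5) := by rw [← ho, pow_mod_orderOf]
    rw [h1]
    have h2 : m % 5 ≠ 0 := by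
      intro h
      have h3 := Nat.dvd_of_mod_eq_zero h
      have h4 := Nat.Coprime.symm hm
      rw [Nat.Prime.coprime_iff_not_dvd Nat.prime_five] at h4
      exact h4 h3
    have h3 : m % 5 < 5 := Nat.mod_lt _ (by norm_num)
    obtain ⟨k, hk⟩ : ∃ k : ℕ, 2 ^ k % 5 = m % 5 := by
      rcases (by omega : m % 5 = 1 ∨ m % 5 = 2 ∨ m % 5 = 3 ∨ m % 5 = 4) with h | h | h | h
      · exact ⟨0, by rw [h]; norm_num⟩
      · exact ⟨1, by rw [h]; norm_num⟩
      · exact ⟨3, by rw [h]; norm_num⟩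
      · exact ⟨2, by rw [h]; norm_num⟩
    refine isConj_iff.2 ⟨g ^ k, ?_⟩
    rw [hgk, ← hk]
    conv_rhs => rw [← ho, pow_mod_orderOf]
  choose v hv using hint
  have h1 := sum_normSq (el e y)
  rw [hc] at h1
  have h2 : ∑ χ : IrrCharacter G, v χ ^ 2 = 5 := by
    have h3 : ((∑ χ : IrrCharacter G, v χ ^ 2 : ℤ) : ℝ) = ((5 : ℤ) : ℝ) := by
      push_cast
      refine Eq.trans ?_ (h1.trans (by norm_num))
      refine Finset.sum_congr rfl fun χ _ => ?_
      rw [hv, Complex.normSq_intCast]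
      ring
    exact_mod_cast h3
  have h3 : ((Finset.univ.filter fun χ : IrrCharacter G => ¬ 5 ∣ charDegree (χ : G → ℂ)).card : ℤ) ≤ 5 := by
    rw [← h2, Finset.card_eq_sum_ones]
    push_cast
    refine (Finset.sum_le_sum fun χ hχ => ?_).trans
      (Finset.sum_le_sum_of_subset_of_nonneg (Finset.filter_subset _ _) (fun χ _ _ => sq_nonneg (v χ)))
    have h4 : v χ ≠ 0 := by
      intro h5
      have h6 := dvd_sub_of_int Nat.prime_five χ ⟨1, by rw [pow_one]; exact ho⟩ (hv χ)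
      rw [h5, zero_sub, dvd_neg] at h6
      exact (Finset.mem_filter.1 hχ).2 (by exact_mod_cast h6)
    have h5 : 0 < v χ ^ 2 := by positivity
    omega
  exact_mod_cast h3

/-- **The row of `A₆`.** -/
theorem grow_six : GRow.{w, 0} (alternatingGroup (Fin 6)) := by
  intro G _ _ M S P hM hS ⟨e₀⟩
  classical
  have := hS.normal
  have := hS.simple
  have hp3 : Fact (Nat.Prime 3) := ⟨Nat.prime_three⟩
  have := finite_irr (G := G)
  have := Fintype.ofFinite (IrrCharacter G)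
  obtain ⟨e, he⟩ := exists_equiv P hS.free.card e₀
  have A : Al S (P : Subgroup G) e := ⟨hS.cent, he, hS.free⟩
  obtain ⟨ε, hu, hv, hz⟩ := exists_eps
  have hεN : ε ∉ NE := by
    intro h
    have h1 := three_of_NE h
    rw [hu] at h1
    have h2 : (pu⁻¹ * pv⁻¹).support.card = 3 := h1
    revert h2; decide
  obtain ⟨hall, hcount⟩ := degrees A hS.nonab
  obtain ⟨-, hA2⟩ := H774.P9.arith hM hS.free
  have hNmul : ∀ σ : Perm (Fin 6), ε * cn σ ∉ NE := fun σ h => hεN (by
    have := mul_mem h (inv_mem (cn_mem_NE σ))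
    rwa [mul_inv_cancel_right] at this)
  rcases A.cases hεN with hI | hO
  · -- `PGL₂(9)`
    obtain ⟨g, hg⟩ := hI 1 sign_one
    have hg' : act e g = ε := by
      rw [hg]
      have : cn 1 = 1 := map_one _
      rw [this, mul_one]
    have hcyc := cyc_of_pgl A hu hv hg'
    obtain ⟨g2, hg2⟩ := hI ps ps_sign
    have hy2 : act e g2 y = y := by
      have h1 : cn ps y = z := by apply Subtype.ext; rw [cn_coe]; exact ps_conj
      rw [hg2, MulAut.mul_apply, h1, hz]
    have hc := card_cent_pgl A hy2 (by rw [hg2]; exact hNmul _)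
    have h16 : (Finset.univ.filter fun χ : IrrCharacter G => charDegree (χ : G → ℂ) = 16).card = 0 := by
      rcases hcount with h | h
      · exact h.1
      · exact (no_sixteen A hc h).elim
    refine iff_of_false (fun h6 => ?_) (fun h => h hcyc)
    obtain ⟨χ, -, hχ⟩ := hA2.1 h6
    have h1 : charDegree (χ : G → ℂ) = 16 := by
      have := hall χ
      omega
    have h2 := Finset.card_eq_zero.1 h16
    have h3 : χ ∈ (Finset.univ.filter fun χ : IrrCharacter G => charDegree (χ : G → ℂ) = 16) :=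
      Finset.mem_filter.2 ⟨Finset.mem_univ _, h1⟩
    rw [h2] at h3
    exact Finset.notMem_empty _ h3
  · -- `M₁₀`
    obtain ⟨g, hg⟩ := hO (swap (0 : Fin 6) 1) (sign_swap (by decide))
    have hcyc := not_cyc_of_m10 A hu hv hg
    obtain ⟨g2, hg2⟩ := hO pt pt_sign
    have hy2 : act e g2 y = y ^ 2 := by
      have h1 : cn pt y = z ^ 2 := by apply Subtype.ext; rw [cn_coe]; exact pt_conj
      rw [hg2, MulAut.mul_apply, h1, map_pow, hz]
    have hc := card_cent_m10 A hy2 (by rw [hg2]; exact hNmul _)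
    have h5 := few_five hc hy2
    have h16 : (Finset.univ.filter fun χ : IrrCharacter G => charDegree (χ : G → ℂ) = 16).card = 1 := by
      rcases hcount with h | h
      · omega
      · exact h
    refine iff_of_true (hA2.2 ?_) hcyc
    obtain ⟨χ, hχ⟩ := Finset.card_eq_one.1 h16
    have hχ16 : charDegree (χ : G → ℂ) = 16 := by
      have : χ ∈ (Finset.univ.filter fun χ : IrrCharacter G => charDegree (χ : G → ℂ) = 16) := by
        rw [hχ]; exact Finset.mem_singleton_self _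
      exact (Finset.mem_filter.1 this).2
    refine ⟨χ, ?_, Or.inr (by rw [hχ16])⟩
    refine H684.Principal.mem_of_not_dvd hM (U := (P : Subgroup G)) P.isPGroup' ?_ χ (by rw [hχ16]; norm_num)
    have hle : centralizer ((P : Subgroup G) : Set G) ≤ (P : Subgroup G) := by
      intro c hc
      exact A.cent_U (mem_centralizer_iff.1 hc _ ((A.mem_iff u).2 rfl)).symm
    exact P.isPGroup'.to_le hle

end Cfsg.Agent.H600.SixRow
end

private theorem dce_c4c637e85521 : _root_.True := by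
  try have : _root_.True := by simp only [_root_.Cfsg.Agent.H600.SixRow.Ks.eq_1]
  try have : _root_.True := by simp only [_root_.Cfsg.Agent.H600.SixRow.wt.eq_1]
  try have : _root_.True := by simp only [_root_.Cfsg.Agent.H600.SixRow.wt.eq_3]
  try have : _root_.True := by simp only [_root_.Cfsg.Agent.H600.SixRow.wt.eq_5]
  try have : _root_.True := by simp only [_root_.Cfsg.Agent.H600.SixRow.wt.eq_4]
  try have : _root_.True := by simp only [_root_.Cfsg.Agent.H600.SixRow.wt.eq_2]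
  try have : _root_.True := by simp only [_root_.Cfsg.Agent.H600.SixRow.wt.eq_6]
  exact _root_.True.intro
end

-- part: H734/K6/FiFive_mg
section
prune_inst 0x421406064032212000004009651001e72920005900008000010a001020486de600982a020c8800d0c1808aa0500310048110000f0024000000e000400011901a088ea42023300a10424008f80b087580c00000000000000000000000000041004000000000
set_option linter.all false
open scoped Cfsg.Agent.FastGrp

-- part: H734/K6/FiFive
section
/-!
# S4876, the rows `Fi22`, `Fi23`, `Fi24'` for `p = 5` (helper734)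

In `Fi22` the centralizer of an element `u` of order five contains `S₅` (helper835); this goes up to `2.Fi22 ≤ Fi23`
and `Fi23 ≤ Fi24'`. Criterion E of helper404.
-/

set_option autoImplicit false

namespace Cfsg.Agent.H734.K6.Fi

open Cfsg Subgroup Cfsg.Agent.H61.K6 Cfsg.Agent.H404.K6 Cfsg.Agent.H835.SymFive Cfsg.Agent.SporRec.Co3

universe u v

/-- the data go up to a central extension by a group of order two -/
theorem inert_lift {X Y : Type*} [Group X] [Group Y] (π : Y →* X) (hπ : Function.Surjective π)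
    (hc : π.ker ≤ center Y) (h2 : Nat.card π.ker = 2) {x y h : X} {r n : ℕ} (H : Inert 5 x y h r n)
    (hY : ¬ 5 ^ 3 ∣ Nat.card Y) : ∃ x' y' h' : Y, Inert 5 x' y' h' r n := by
  have hk : ∀ z : Y, π z = 1 → z ^ 2 = 1 := fun z hz => by
    have h3 : (⟨z, hz⟩ : π.ker) ^ 2 = 1 := by rw [← h2]; exact pow_card_eq_one'
    exact congrArg Subtype.val h3
  have hcz : ∀ z w : Y, π z = 1 → z * w = w * z := fun z w hz => (mem_center_iff.1 (hc hz) w).symm
  have key : ∀ z : Y, π z = 1 → z ^ 5 = 1 → z = 1 := fun z hz h5 => by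
    have h3 := hk z hz
    have h4 : z ^ 5 = z ^ 2 * z ^ 2 * z := by group
    rw [h4, h3, one_mul, one_mul] at h5
    exact h5
  have lift : ∀ a : X, a ^ 5 = 1 → ∃ b : Y, π b = a ∧ b ^ 5 = 1 := fun a ha => by
    obtain ⟨b, rfl⟩ := hπ a
    refine ⟨b ^ 6, ?_, ?_⟩
    · rw [map_pow]
      calc π b ^ 6 = π b ^ 5 * π b := pow_succ _ _
        _ = π b := by rw [ha, one_mul]
    · have h3 := hk (b ^ 5) (by rw [map_pow, ha])
      calc (b ^ 6) ^ 5 = ((b ^ 5) ^ 2) ^ 3 := by rw [← pow_mul, ← pow_mul, ← pow_mul]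
        _ = 1 := by rw [h3, one_pow]
  have hx5 : x ^ 5 = 1 := by rw [← H.ox]; exact pow_orderOf_eq_one x
  have hy5 : y ^ 5 = 1 := by rw [← H.oy]; exact pow_orderOf_eq_one y
  have h5f : Fact (Nat.Prime 5) := ⟨by norm_num⟩
  have hx1 : x ≠ 1 := fun h1 => by
    have := H.ox
    rw [h1, orderOf_one] at this
    norm_num at this
  have hy1 : y ≠ 1 := fun h1 => by
    have := H.oy
    rw [h1, orderOf_one] at this
    norm_num at this
  obtain ⟨a, rfl, ha⟩ := lift x hx5
  obtain ⟨b, rfl, hb⟩ := lift y hy5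
  obtain ⟨c, rfl⟩ := hπ h
  -- `g a g⁻¹ = w` as soon as the images agree and both fifth powers are trivial
  have eq_of : ∀ s t : Y, s ^ 5 = 1 → t ^ 5 = 1 → π s = π t → s = t := fun s t hs ht hst => by
    have h3 : π (s * t⁻¹) = 1 := by rw [map_mul, map_inv, hst, mul_inv_cancel]
    have h4 : Commute (s * t⁻¹) t := hcz _ _ h3
    have h5 : (s * t⁻¹) ^ 5 = 1 := by
      have h6 : s = s * t⁻¹ * t := by group
      have h7 : s ^ 5 = (s * t⁻¹) ^ 5 * t ^ 5 := by
        conv_lhs => rw [h6]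
        exact h4.mul_pow 5
      rw [hs, ht, mul_one] at h7
      exact h7.symm
    have h6 := key _ h3 h5
    rwa [mul_inv_eq_one] at h6
  have cpow : ∀ g s : Y, s ^ 5 = 1 → (g * s * g⁻¹) ^ 5 = 1 := fun g s hs => by
    rw [conj_pow, hs, mul_one, mul_inv_cancel]
  refine ⟨a, b, c, hY, orderOf_eq_prime ha fun h1 => hx1 (by rw [h1, map_one]),
    orderOf_eq_prime hb fun h1 => hy1 (by rw [h1, map_one]), ?_, ?_, ?_, ?_, H.ord⟩
  · have h3 : a * b * a⁻¹ = b := eq_of _ _ (cpow a b hb) hb (by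
      rw [map_mul, map_mul, map_inv, H.comm.eq]; group)
    exact mul_inv_eq_iff_eq_mul.1 h3
  · rintro ⟨k, hk⟩
    apply H.nmem
    exact ⟨k, by rw [← hk]; exact (map_zpow π a k).symm⟩
  · have h3 : c * a * c⁻¹ = a := eq_of _ _ (cpow c a ha) ha (by
      rw [map_mul, map_mul, map_inv, H.hx.eq]; group)
    exact mul_inv_eq_iff_eq_mul.1 h3
  · exact eq_of _ _ (cpow c b hb) (by rw [← pow_mul, mul_comm, pow_mul, hb, one_pow])
      (by rw [map_mul, map_mul, map_inv, H.hy, map_pow])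

theorem ord_two : ∀ i, 0 < i → i < 4 → ¬ 2 ^ i ≡ 1 [MOD 5] := by
  intro i h0 h4
  interval_cases i <;> decide

theorem inert_fi22 : ∃ x y h : Spor.Fi22, Inert 5 x y h 2 4 := by
  have I := H836.inv_of_iso (MulEquiv.refl Spor.Fi22)
  have hcard := I.ctx.card
  have hfin := I.ctx.finite
  have h5f : Fact (Nat.Prime 5) := ⟨by norm_num⟩
  obtain ⟨x, hx⟩ := exists_prime_orderOf_dvd_card' (G := Spor.Fi22) 5 (by rw [hcard]; norm_num)
  have hx5 : x ^ 5 = 1 := by rw [← hx]; exact pow_orderOf_eq_one x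
  have hx1 : x ≠ 1 := fun h1 => by
    rw [h1, orderOf_one] at hx
    norm_num at hx
  obtain ⟨f, hf, hS, hcl⟩ := H835.Five.exists_sym I.ctx hx5 hx1
  obtain ⟨τ, hτ⟩ := exists_double
  have hle : f.range ≤ centralizer ({x} : Set Spor.Fi22) := by
    rw [← hcl, closure_le]
    intro t ht
    exact mem_centralizer_singleton_iff.2 ht.2.symm
  have hcen : ∀ q : P5, f q * x = x * f q := fun q => mem_centralizer_singleton_iff.1 (hle ⟨q, rfl⟩)
  refine ⟨x, f cyc, f τ, ?_, hx, by rw [orderOf_injective f hf, orderOf_cyc], (hcen cyc).symm, ?_, hcen τ, ?_, ord_two⟩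
  · rw [hcard]
    norm_num
  · rintro ⟨k, hk⟩
    have hk' : x ^ k = f cyc := hk
    have h1 : f τ * f cyc = f cyc * f τ := by
      rw [← hk']
      exact ((show Commute (f τ) x from hcen τ).zpow_right k).eq
    rw [← map_mul, ← map_mul] at h1
    have h2 := hf h1
    have h3 : cyc ^ 2 = cyc := by rw [← hτ, h2]; group
    have h4 : cyc = 1 := by
      rw [pow_two] at h3
      exact mul_eq_left.1 h3
    exact cyc_ne h4
  · rw [← map_inv, ← map_mul, ← map_mul, hτ, map_pow]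

theorem inert_fi23 : ∃ x y h : Spor.Fi23, Inert 5 x y h 2 4 := by
  have hcard : Nat.card Spor.Fi23 = 4089470473293004800 := S1697.result.2
  obtain ⟨h1, ⟨e⟩, -⟩ := S1688.result
  obtain ⟨x, y, h, H⟩ := inert_fi22
  set L := ((Subgroup.closure ({Spor.Fi23.a, Spor.Fi23.b, Spor.Fi23.c, Spor.Fi23.d, Spor.Fi23.e, Spor.Fi23.f,
    Spor.Fi23.g, Spor.Fi23.h, Spor.Fi23.i} : Set (FreeGroup Spor.Fi23.Gen))).map (PresentedGroup.mk
    (Spor.coxRelators Spor.Fi23.edges ∪ {r | r ∈ Spor.Fi23.extra}))) with hL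
  have hnd : ¬ 5 ^ 3 ∣ Nat.card Spor.Fi23 := by rw [hcard]; norm_num
  let π : L →* Spor.Fi22 := e.toMonoidHom.comp (QuotientGroup.mk' (center L))
  have hker : π.ker = center L := by
    ext z
    rw [MonoidHom.mem_ker]
    change e (QuotientGroup.mk' (center L) z) = 1 ↔ _
    rw [EmbeddingLike.map_eq_one_iff]
    exact QuotientGroup.eq_one_iff z
  obtain ⟨x', y', h', H'⟩ := inert_lift π (e.surjective.comp (QuotientGroup.mk'_surjective _)) hker.le
    (by rw [hker]; exact h1) H fun h5 => hnd (h5.trans (Subgroup.card_subgroup_dvd_card L))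
  exact ⟨x', y', h', H'.map L.subtype L.subtype_injective hnd⟩

theorem inert_fi24 : ∃ x y h : Spor.Fi24', Inert 5 x y h 2 4 := by
  have hcard : Nat.card Spor.Fi24' = 1255205709190661721292800 := S1698.result.2
  obtain ⟨f, hf⟩ := H820.ElFi24.exists_hom
  obtain ⟨x, y, h, H⟩ := inert_fi23
  exact ⟨f x, f y, f h, H.map f hf (by rw [hcard]; norm_num)⟩

theorem krow_of_iso {A X : Type*} [Group A] [Group X] (e : X ≃* A) (h : ∃ x y h : A, Inert 5 x y h 2 4) :
    KRow 5 X := by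
  obtain ⟨x, y, h, H⟩ := h
  exact KRow.of_inertial (H.map e.symm.toMonoidHom e.symm.injective (by
    rw [Nat.card_congr e.toEquiv]
    exact H.card)) (Or.inl ⟨rfl, le_rfl⟩)

/-- **S4876, the row `Fi22`, `p = 5`** -/
theorem row_fi22 {X : Type v} [Group X] (h : Spor.IsoFi22 X) : KRow.{u, v} 5 X := by
  obtain ⟨e⟩ := h
  exact krow_of_iso e inert_fi22

/-- **S4876, the row `Fi23`, `p = 5`** -/
theorem row_fi23 {X : Type v} [Group X] (h : Spor.IsoFi23 X) : KRow.{u, v} 5 X := by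
  obtain ⟨e⟩ := h
  exact krow_of_iso e inert_fi23

/-- **S4876, the row `Fi24'`, `p = 5`** -/
theorem row_fi24 {X : Type v} [Group X] (h : Spor.IsoFi24' X) : KRow.{u, v} 5 X := by
  obtain ⟨e⟩ := h
  exact krow_of_iso e inert_fi24

end Cfsg.Agent.H734.K6.Fi
end

-- part: H774/SP/Ly
section
/-!
# S4876, `p = 3`: the row `Ly` (helper774)

Three elements of the centralizer `2.A11` of an involution: types `3`, `3^2` (weight 2) and `9` (weight 1).
-/

set_option autoImplicit false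

open Cfsg Subgroup Equiv

namespace Cfsg.Agent.H774.SP.Ly

open Cfsg.Agent.H61.K6 Cfsg.Agent.H820.K6 Cfsg.Agent.SporRec.TwoAn Cfsg.Agent.TypeM.Two
open Cfsg.Agent.CpAutLy.Types Cfsg.Agent.CpAutLy.Cov Cfsg.Agent.CpAutLy.McLThree Cfsg.Agent.CpAutLy.Base
open Cfsg.Agent.CpAutLy.Row Cfsg.Agent.TypeM.McLFromLy

universe u

/-- `C(x₀)` has one class of involutions -/
theorem one_class {x₀ : Spor.Ly} (h : Three x₀) {s s' : Spor.Ly} (hs : orderOf s = 2) (hs' : orderOf s' = 2)
    (hsx : s * x₀ = x₀ * s) (hsx' : s' * x₀ = x₀ * s') : ∃ c : Spor.Ly, c * x₀ = x₀ * c ∧ c * s * c⁻¹ = s' := by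
  obtain ⟨-, -, -, ⟨L⟩⟩ := TypeM.FactsMcL.facts h.quot
  let H := centralizer ({x₀} : Set Spor.Ly)
  have hz3 : ∀ z : H, z ∈ center H → z ^ 3 = 1 := by
    intro z hz
    have h1 : (⟨z, hz⟩ : center H) ^ Nat.card (center H) = 1 := pow_card_eq_one'
    rw [h.zcard] at h1
    exact congrArg Subtype.val h1
  have key : ∀ a : H, orderOf (a : Spor.Ly) = 2 →
      ((a : H ⧸ center H) * (a : H ⧸ center H) = 1 ∧ (a : H ⧸ center H) ≠ 1) := by
    intro a ha
    have h2 : a * a = 1 := Subtype.ext (MT.sq_of_orderOf ha).1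
    refine ⟨by rw [← QuotientGroup.mk_mul, h2, QuotientGroup.mk_one], fun h1 => ?_⟩
    have h3 := hz3 a ((QuotientGroup.eq_one_iff a).1 h1)
    apply (MT.sq_of_orderOf ha).2
    have h4 : a = 1 := by
      calc a = a ^ 3 * (a * a)⁻¹ := by group
        _ = 1 := by rw [h3, h2, inv_one, mul_one]
    rw [h4]
    rfl
  let a : H := ⟨s, mem_centralizer_singleton_iff.2 hsx⟩
  let b : H := ⟨s', mem_centralizer_singleton_iff.2 hsx'⟩
  obtain ⟨q, hq⟩ := L.conj_of_involutions (key a hs).1 (key a hs).2 (key b hs').1 (key b hs').2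
  obtain ⟨c, rfl⟩ := QuotientGroup.mk_surjective q
  have ha2 : a * a = 1 := Subtype.ext (MT.sq_of_orderOf hs).1
  have hb2 : b * b = 1 := Subtype.ext (MT.sq_of_orderOf hs').1
  have hz : (c * a * c⁻¹)⁻¹ * b ∈ center H := by
    rw [← QuotientGroup.eq_one_iff, QuotientGroup.mk_mul, QuotientGroup.mk_inv, QuotientGroup.mk_mul,
      QuotientGroup.mk_mul, QuotientGroup.mk_inv, hq, inv_mul_cancel]
  set z : H := (c * a * c⁻¹)⁻¹ * b with hzdef
  have hb : b = (c * a * c⁻¹) * z := by rw [hzdef]; group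
  have hcomm : z * (c * a * c⁻¹) = (c * a * c⁻¹) * z := (mem_center_iff.1 hz _).symm
  have hz2 : z * z = 1 := by
    have h1 : b * b = (c * (a * a) * c⁻¹) * (z * z) := by
      calc b * b = (c * a * c⁻¹) * z * ((c * a * c⁻¹) * z) := by rw [← hb]
        _ = (c * a * c⁻¹) * (z * (c * a * c⁻¹)) * z := by group
        _ = (c * a * c⁻¹) * ((c * a * c⁻¹) * z) * z := by rw [hcomm]
        _ = _ := by group
    rw [hb2, ha2] at h1
    rw [h1]
    group
  have hz1 : z = 1 := by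
    calc z = z ^ 3 * (z * z)⁻¹ := by group
      _ = 1 := by rw [hz3 z hz, hz2, inv_one, mul_one]
  rw [hz1, mul_one] at hb
  exact ⟨c, mem_centralizer_singleton_iff.1 c.2, (congrArg Subtype.val hb).symm⟩

/-! ### permutations -/

def d4 : Perm (Fin 11) := swap (6 : Fin 11) 7 * swap (7 : Fin 11) 8
def d9 : Perm (Fin 11) := swap (0 : Fin 11) 1 * swap (1 : Fin 11) 2 * swap (2 : Fin 11) 3 * swap (3 : Fin 11) 4 * swap (4 : Fin 11) 5 * swap (5 : Fin 11) 6 * swap (6 : Fin 11) 7 * swap (7 : Fin 11) 8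
def n1 : Perm (Fin 11) := swap (3 : Fin 11) 4 * swap (6 : Fin 11) 7
def n2 : Perm (Fin 11) := swap (6 : Fin 11) 7 * swap (9 : Fin 11) 10

theorem comm_12 : c1 * c2 = c2 * c1 := by decide +kernel
theorem comm_n1 : n1 * c1 = c1 * n1 := by decide +kernel
theorem inv_n1 : n1 * c2 * n1⁻¹ = c2⁻¹ := by decide +kernel
theorem cube_d4 : d4 ^ 3 = 1 := by decide +kernel
theorem d4_ne : d4 ≠ 1 := by decide +kernel
theorem comm_d4 : d4 * (c1 * c2) = (c1 * c2) * d4 := by decide +kernel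
theorem comm_n2 : n2 * (c1 * c2) = (c1 * c2) * n2 := by decide +kernel
theorem inv_n2 : n2 * d4 * n2⁻¹ = d4⁻¹ := by decide +kernel
theorem cube_c12 : (c1 * c2) ^ 3 = 1 := by decide +kernel
theorem nine_d9 : d9 ^ 9 = 1 := by decide +kernel
theorem d9_ne : d9 ^ 3 ≠ 1 := by decide +kernel

section

variable {C : Type*} [Group C] (K : Cover (Fin 11) C)

/-- lifts -/
theorem exists_pair {p q m : Perm (Fin 11)} (hp : p ^ 3 = 1) (hq : q ^ 3 = 1) (hq1 : q ≠ 1)
    (hm : m ∈ alternatingGroup (Fin 11)) (hqp : q * p = p * q) (hmp : m * p = p * m) (hmq : m * q * m⁻¹ = q⁻¹) :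
    ∃ x y n : C, K.π x = p ∧ x ^ 3 = 1 ∧ y ^ 3 = 1 ∧ y ≠ 1 ∧ y * x = x * y ∧ n * x = x * n ∧ n * y * n⁻¹ = y⁻¹ := by
  obtain ⟨x, hx, hx3⟩ := K.exists_odd_lift (even_of_odd (by decide : Odd 3) hp) (by decide : Odd 3) hp
  obtain ⟨y, hy, hy3⟩ := K.exists_odd_lift (even_of_odd (by decide : Odd 3) hq) (by decide : Odd 3) hq
  obtain ⟨n, hn⟩ := K.exists_lift hm
  refine ⟨x, y, n, hx, hx3, hy3, ?_, ?_, ?_, ?_⟩
  · rintro rfl
    rw [map_one] at hy
    exact hq1 hy.symm
  · exact K.commute_of_odd (by decide : Odd 3) hy3 (by rw [hx, hy, hqp])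
  · exact (K.commute_of_odd (by decide : Odd 3) hx3 (by rw [hx, hn, hmp])).symm
  · refine K.odd_lift_unique (by decide : Odd 3) ?_ ?_ ?_
    · rw [conj_pow, hy3, mul_one, mul_inv_cancel]
    · rw [inv_pow, hy3, inv_one]
    · rw [map_mul, map_mul, map_inv, map_inv, hn, hy, hmq]

end

/-- weight 2 -/
theorem wx_inv {X : Type*} [Group X] [Finite X] {x y n : X} (hyx : y * x = x * y) (hnx : n * x = x * n)
    (hy : y ^ 3 = 1) (hy1 : y ≠ 1) (h : n * y * n⁻¹ = y⁻¹) : WX 3 x 2 := by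
  have h3 : Fact (Nat.Prime 3) := ⟨Nat.prime_three⟩
  refine WX.two (Cfsg.Agent.H121.K6.not_compl_of_inv Nat.prime_three (by norm_num) (k := 1)
    (y := (⟨y, mem_centralizer_singleton_iff.2 hyx⟩ : centralizer ({x} : Set X)))
    (n := (⟨n, mem_centralizer_singleton_iff.2 hnx⟩ : centralizer ({x} : Set X))) ?_ ?_ ?_)
  · rw [pow_one]
    exact Subtype.ext hy
  · exact fun h1 => hy1 (congrArg Subtype.val h1)
  · exact Subtype.ext h

theorem krow : KRow.{u, 0} 3 Spor.Ly := by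
  classical
  have hfin : Finite Spor.Ly := Cfsg.Agent.Ly.Setup.finite_ly
  have h3 : Fact (Nat.Prime 3) := ⟨Nat.prime_three⟩
  obtain ⟨x₀, h₀⟩ := exists_three
  obtain ⟨L⟩ := TypeM.FactsLy.exists_mt_ly
  obtain ⟨x1, y1, m1, e1, o1, p1, q1, r1, s1, t1⟩ := exists_pair L.K cube_c1 cube_c2 c2_ne
    (Cover.swap_mul_swap_mem 3 4 6 7 (by decide) (by decide)) comm_12.symm comm_n1 inv_n1
  obtain ⟨x2, y2, m2, e2, o2, p2, q2, r2, s2, t2⟩ := exists_pair L.K cube_c12 cube_d4 d4_ne
    (Cover.swap_mul_swap_mem 6 7 9 10 (by decide) (by decide)) comm_d4 comm_n2 inv_n2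
  obtain ⟨w, hw, hw9⟩ := L.K.exists_odd_lift (even_of_odd (by decide : Odd 9) nine_d9) (by decide : Odd 9) nine_d9
  have hx1 : x1 ≠ 1 := by
    rintro rfl
    rw [map_one] at e1
    exact absurd e1 (by decide +kernel)
  have hx2 : x2 ≠ 1 := by
    rintro rfl
    rw [map_one] at e2
    exact absurd e2 (by decide +kernel)
  have oo1 : orderOf (x1 : Spor.Ly) = 3 := by rw [Subgroup.orderOf_coe]; exact orderOf_eq_prime o1 hx1
  have oo2 : orderOf (x2 : Spor.Ly) = 3 := by rw [Subgroup.orderOf_coe]; exact orderOf_eq_prime o2 hx2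
  have oow : orderOf (w : Spor.Ly) = 9 := by
    rw [Subgroup.orderOf_coe]
    refine orderOf_eq_prime_pow (p := 3) (n := 1) ?_ (by simpa using hw9)
    intro h
    apply d9_ne
    rw [← hw, ← map_pow, show w ^ 3 = 1 by simpa using h, map_one]
  have tx1 : L.t * (x1 : Spor.Ly) = x1 * L.t := (L.mem_iff.1 x1.2).symm
  have tx2 : L.t * (x2 : Spor.Ly) = x2 * L.t := (L.mem_iff.1 x2.2).symm
  have hn1 : nn (x1 : Spor.Ly) L.t = 120960 := by
    have hxc : xc tx1 = x1 := rfl
    rcases Cfsg.Agent.CpAutLy.Types.cases L oo1 tx1 with h0 | h0 | h0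
    · exact h0.2
    · exfalso
      have h3 := h0.1
      rw [hxc, e1, type_c1] at h3
      revert h3
      decide
    · exfalso
      have h3 := h0.1
      rw [hxc, e1, type_c1] at h3
      revert h3
      decide
  have hn2 : nn (x2 : Spor.Ly) L.t = 2160 := by
    have hxc : xc tx2 = x2 := rfl
    rcases Cfsg.Agent.CpAutLy.Types.cases L oo2 tx2 with h0 | h0 | h0
    · exfalso
      have h3 := h0.1
      rw [hxc, e2, type_c12] at h3
      revert h3
      decide
    · exact h0.2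
    · exfalso
      have h3 := h0.1
      rw [hxc, e2, type_c12] at h3
      revert h3
      decide
  have hne : ¬ IsConj (x2 : Spor.Ly) x1 := by
    intro hc
    obtain ⟨g, hg⟩ := isConj_iff.1 hc
    obtain ⟨s, hs, hsx, hsn⟩ := exists_base_nn h₀
    obtain ⟨k, hk⟩ := exists_conj_of_nn L oo1 L.orderOf_t tx1 hn1 h₀.ord hs hsx hsn
    have hk2 : (k * g) * x2 * (k * g)⁻¹ = x₀ := by rw [← hk, ← hg]; group
    have hto : orderOf ((k * g) * L.t * (k * g)⁻¹) = 2 := by rw [orderOf_conj', L.orderOf_t]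
    have htc : ((k * g) * L.t * (k * g)⁻¹) * x₀ = x₀ * ((k * g) * L.t * (k * g)⁻¹) := by
      rw [← hk2]
      exact conj_comm _ tx2
    obtain ⟨c, hcx, hcs⟩ := one_class h₀ hs hto hsx htc
    have h1 : nn x₀ ((k * g) * L.t * (k * g)⁻¹) = 2160 := by
      conv_lhs => rw [← hk2]
      rw [nn_conj, hn2]
    have h2 : nn (c * x₀ * c⁻¹) (c * s * c⁻¹) = 120960 := by rw [nn_conj, hsn]
    rw [hcs, hcx, mul_inv_cancel_right, h1] at h2
    omega
  have hna : ∃ a b : Spor.Ly, a * b ≠ b * a := TypeM.OutLyFin.not_comm (by norm_num) L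
  have hs : IsSimpleGroup Spor.Ly := Cfsg.Agent.Ly.Setup.isSimple_ly
  have hd3 : 3 ∣ Nat.card Spor.Ly := oo1 ▸ orderOf_dvd_natCard (x1 : Spor.Ly)
  have w1 : WX 3 (x1 : Spor.Ly) 2 := wx_inv (congrArg Subtype.val r1) (congrArg Subtype.val s1)
    (congrArg Subtype.val p1) (fun h => q1 (Subtype.ext h)) (congrArg Subtype.val t1)
  have w2 : WX 3 (x2 : Spor.Ly) 2 := wx_inv (congrArg Subtype.val r2) (congrArg Subtype.val s2)
    (congrArg Subtype.val p2) (fun h => q2 (Subtype.ext h)) (congrArg Subtype.val t2)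
  have ne12 : (x2 : Spor.Ly) ≠ x1 := fun h => hne (by rw [h])
  have ne1w : (x1 : Spor.Ly) ≠ w := fun h => by rw [h, oow] at oo1; norm_num at oo1
  have ne2w : (x2 : Spor.Ly) ≠ w := fun h => by rw [h, oow] at oo2; norm_num at oo2
  have horder : ∀ {a b : Spor.Ly}, IsConj a b → orderOf a = orderOf b := by
    intro a b h
    obtain ⟨g, hg⟩ := isConj_iff.1 h
    rw [← hg, orderOf_conj']
  refine KGe.of_complete (fun σ => ?_) fun M hM => ?_
  · obtain ⟨k, hk⟩ := TypeM.OutLyFin.inner_ly σ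
    exact ⟨k, fun y => by rw [← hk]; rfl⟩
  · refine card_ge (n := 7) (m := 2) {(x1 : Spor.Ly), (x2 : Spor.Ly), (w : Spor.Ly)} (fun y hy => ?_)
      (fun y hy y' hy' hc => ?_) (fun x => if x = w then 1 else 2) (fun y hy => ?_) hM ?_ ?_
    · simp only [Finset.mem_insert, Finset.mem_singleton] at hy
      rcases hy with rfl | rfl | rfl
      · exact ⟨⟨1, by rw [oo1, pow_one]⟩, fun h => by rw [h, orderOf_one] at oo1; norm_num at oo1⟩
      · exact ⟨⟨1, by rw [oo2, pow_one]⟩, fun h => by rw [h, orderOf_one] at oo2; norm_num at oo2⟩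
      · exact ⟨⟨2, by rw [oow]; norm_num⟩, fun h => by rw [h, orderOf_one] at oow; norm_num at oow⟩
    · simp only [Finset.mem_insert, Finset.mem_singleton] at hy hy'
      rcases hy with rfl | rfl | rfl <;> rcases hy' with rfl | rfl | rfl
      · rfl
      · exact absurd hc.symm hne
      · have := horder hc; rw [oo1, oow] at this; norm_num at this
      · exact absurd hc hne
      · rfl
      · have := horder hc; rw [oo2, oow] at this; norm_num at this
      · have := horder hc; rw [oo1, oow] at this; norm_num at this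
      · have := horder hc; rw [oo2, oow] at this; norm_num at this
      · rfl
    · simp only [Finset.mem_insert, Finset.mem_singleton] at hy
      rcases hy with rfl | rfl | rfl
      · rw [if_neg ne1w]; exact w1
      · rw [if_neg ne2w]; exact w2
      · rw [if_pos rfl]; exact WX.one _
    · exact two_le_rank hM (not_compl_of_simple hna hd3)
    · have a1 : (x2 : Spor.Ly) ∉ ({(w : Spor.Ly)} : Finset Spor.Ly) := by
        rw [Finset.mem_singleton]
        exact ne2w
      have a2 : (x1 : Spor.Ly) ∉ ({(x2 : Spor.Ly), (w : Spor.Ly)} : Finset Spor.Ly) := by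
        rw [Finset.mem_insert, Finset.mem_singleton, not_or]
        exact ⟨ne12.symm, ne1w⟩
      rw [Finset.sum_insert a2, Finset.sum_insert a1, Finset.sum_singleton, if_neg ne1w, if_neg ne2w, if_pos rfl]
      norm_num

/-- **The row `Ly`, `p = 3`.** -/
theorem row_ly {X : Type*} [Group X] (h : Spor.IsoLy X) : KRow.{u} 3 X := by
  obtain ⟨e⟩ := h
  exact KRow.congr e.symm krow

end Cfsg.Agent.H774.SP.Ly
end

-- part: H629/K6/JTwo
section
/-!
# S4876, `p = 5`: the Hall-Janko group (helper629)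

* `classes` : elements `x`, `x²`, `w` of order 5, pairwise not conjugate in `J₂`; `C(x)` has the quotient `A₅`;
  the centralizer of a Sylow 5-subgroup is the Sylow 5-subgroup;
* `seven` : `7 ≤ k(B₀(J₂))`;
* `exists_63` : the invariant character of degree 63 of the action on 100 points;
* `row_j2` : `KRow 5`.
-/

set_option autoImplicit false

namespace Cfsg.Agent.H629.K6.JTwo

open Cfsg Subgroup Equiv Cfsg.Agent.H61.K6 Cfsg.Agent.H404.K6

universe u v

section local5

open Cfsg.Agent.J2Type Cfsg.Agent.J2Type.Base Cfsg.Agent.J2Type.CentU Cfsg.Agent.J2Type.CentQuot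
  Cfsg.Agent.J2Type.SylowFive Cfsg.Agent.J2Type.FiveFus

/-- **The elements of order 5.** -/
theorem classes {G : Type*} [Group G] [Finite G] {z u : G} (h : Fus z u) : ∃ x w : G, orderOf x = 5 ∧ orderOf w = 5 ∧
    ¬ IsConj x (x ^ 2) ∧ Nat.card (centralizer ({x} : Set G)) = 300 ∧
    ¬ HasNormalPComplement 5 ↥(centralizer ({x} : Set G)) ∧ ¬ 4 ∣ Nat.card (centralizer ({w} : Set G)) ∧ CP 5 G := by
  have : Fact (Nat.Prime 5) := ⟨by norm_num⟩
  have hG := Order.card_of_fus h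
  obtain ⟨f, U, V, H0, F⟩ := CentU.main h
  have h60 : Nat.card H0 = 60 := by
    have h1 := Order.card_centralizer_u h
    rw [F.str.card] at h1
    omega
  obtain ⟨x0, hx0⟩ := exists_prime_orderOf_dvd_card' (G := H0) 5 (by rw [h60]; norm_num)
  obtain ⟨w0, hw0⟩ := exists_prime_orderOf_dvd_card' (G := centralizer ({z} : Set G)) 5
    (by rw [h.cardC]; norm_num)
  have hx : orderOf (x0 : G) = 5 := by rw [orderOf_coe]; exact hx0
  have hw : orderOf (w0 : G) = 5 := by rw [orderOf_coe]; exact hw0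
  have hwz : (w0 : G) * z = z * w0 := mem_centralizer_singleton_iff.mp w0.2
  have hgood := Cent5.good_of_mem h F h60 x0.2 hx
  set x : G := (x0 : G) with hxd
  set w : G := (w0 : G) with hwd
  have hreal := real_of_comm h hw hwz
  have h4 := not_four_dvd h hw hwz
  -- a Sylow subgroup containing `x`
  obtain ⟨P, hP⟩ := (IsPGroup.of_card (p := 5) (n := 1) (G := ↥(zpowers x)) (by
    rw [Nat.card_zpowers, hx, pow_one])).exists_le_sylow
  have hxP : x ∈ P := hP (mem_zpowers x)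
  obtain ⟨b, hb⟩ := exists_conj_mem_sylow P (y := w) (n := 1) (by rw [hw]; norm_num)
  have hwb5 : orderOf (b * w * b⁻¹) = 5 := by
    rw [show b * w * b⁻¹ = MulAut.conj b w from rfl, MulEquiv.orderOf_eq]; exact hw
  have hrealb : IsConj (b * w * b⁻¹) (b * w * b⁻¹)⁻¹ := by
    have h1 : IsConj w (b * w * b⁻¹) := isConj_iff.mpr ⟨b, rfl⟩
    have h2 : IsConj w⁻¹ (b * w * b⁻¹)⁻¹ := isConj_iff.mpr ⟨b, by group⟩
    exact h1.symm.trans (hreal.trans h2)
  have h4b : ¬ 4 ∣ Nat.card (centralizer ({b * w * b⁻¹} : Set G)) := by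
    have h5 : Nat.card (centralizer ({b * w * b⁻¹} : Set G)) = Nat.card (centralizer ({w} : Set G)) :=
      card_centralizer_aut (MulAut.conj b) w
    rw [h5]
    exact h4
  obtain ⟨hCP, h300, -⟩ := sylow_five_aux hG hgood hxP hwb5 hb hrealb h4b
  refine ⟨x, w, hx, hw, ?_, hgood.card_centralizer hG hxP, ?_, h4, P, ?_⟩
  · intro hc
    have hO := card_O hG hxP
    obtain ⟨-, h50⟩ := hgood.key hG hxP
    rw [h50, h300] at hO
    have hT := four_dvd_card_T (P := P) hx hgood.2.1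
    have hTO : T P x = O P x := by
      ext y
      constructor
      · rintro (hy | hy)
        · exact hy
        · exact ⟨hy.1, hc.trans hy.2⟩
      · exact Or.inl
    rw [hTO] at hT
    omega
  · intro hn
    obtain ⟨e⟩ := Cent5.exists_equiv_CQ h F h60 hG x0.2 hx
    have h1 := Cfsg.Agent.Transfer.NormalPComplement.of_surjective (p := 5)
      (e.toMonoidHom.comp (QuotientGroup.mk' (cyc x))) (e.surjective.comp (QuotientGroup.mk'_surjective _)) hn
    have hs : IsSimpleGroup (alternatingGroup (Fin 5)) := alternatingGroup.isSimpleGroup (by simp)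
    refine not_compl_of_simple ?_ ?_ h1
    · by_contra hcon
      push Not at hcon
      have h2 : ∀ a b : alternatingGroup (Fin 5), a * b = b * a := hcon
      revert h2
      decide +kernel
    · rw [Nat.card_congr e.toEquiv.symm, show Nat.card (CQ x) = 60 from Cent5.card_CQ_five h F h60 hG x0.2 hx]
      norm_num
  · intro y hy
    rw [hCP] at hy
    obtain ⟨k, hk⟩ := P.isPGroup' ⟨y, hy⟩
    have h1 : y ^ 5 ^ k = 1 := congrArg Subtype.val hk
    obtain ⟨j, -, hj⟩ := (Nat.dvd_prime_pow (by norm_num : Nat.Prime 5)).1 (orderOf_dvd_of_pow_eq_one h1)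
    exact ⟨j, hj⟩

end local5

theorem card_j2 : Nat.card Spor.J2 = 604800 := Cfsg.Agent.S1619.result.2.2.2

instance finite_j2 : Finite Spor.J2 := Nat.finite_of_card_ne_zero (by rw [card_j2]; norm_num)

theorem j2_classes : ∃ x w : Spor.J2, orderOf x = 5 ∧ orderOf w = 5 ∧
    ¬ IsConj x (x ^ 2) ∧ Nat.card (centralizer ({x} : Set Spor.J2)) = 300 ∧
    ¬ HasNormalPComplement 5 ↥(centralizer ({x} : Set Spor.J2)) ∧
    ¬ 4 ∣ Nat.card (centralizer ({w} : Set Spor.J2)) ∧ CP 5 Spor.J2 := by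
  obtain ⟨t, u, Q, v, ρ, D⟩ := KFacts.J2.Facts.exists_dat_of (X := Spor.J2) ⟨MulEquiv.refl _⟩
  exact classes D.F

theorem cp : CP 5 Spor.J2 := by
  obtain ⟨x, w, -, -, -, -, -, -, h⟩ := j2_classes
  exact h

theorem card_centralizer_of_isConj {G : Type*} [Group G] {a b : G} (h : IsConj a b) :
    Nat.card (centralizer ({b} : Set G)) = Nat.card (centralizer ({a} : Set G)) := by
  obtain ⟨c, rfl⟩ := isConj_iff.1 h
  exact card_centralizer_aut (MulAut.conj c) a

/-- **`k(B₀(J₂)) ≥ 7`** -/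
theorem seven (M : Ideal AlgInt) (hM : IsPModular 5 M) : 7 ≤ Nat.card (principalBlock M Spor.J2) := by
  classical
  have hp : Fact (Nat.Prime 5) := ⟨by norm_num⟩
  obtain ⟨x, w, hx, hw, hxx, h300, hn, h4, -⟩ := j2_classes
  have hC2 : centralizer ({x ^ 2} : Set Spor.J2) = centralizer ({x} : Set Spor.J2) :=
    Cfsg.Agent.J2Type.SylowFive.centralizer_sq hx
  have o2 : orderOf (x ^ 2) = 5 := by rw [Nat.Coprime.orderOf_pow (by rw [hx]; norm_num), hx]
  have hxw : ¬ IsConj x w := fun h => h4 (by rw [card_centralizer_of_isConj h, h300]; norm_num)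
  have hxw2 : ¬ IsConj (x ^ 2) w := fun h => h4 (by rw [card_centralizer_of_isConj h, hC2, h300]; norm_num)
  have ho : ∀ {a b : Spor.J2}, IsConj a b → orderOf a = orderOf b := fun h =>
    Cfsg.Agent.J2Type.SylowFive.orderOf_eq_of_isConj h
  have h1x : ¬ IsConj 1 x := fun h => by have := ho h; rw [hx, orderOf_one] at this; norm_num at this
  have h1x2 : ¬ IsConj 1 (x ^ 2) := fun h => by have := ho h; rw [o2, orderOf_one] at this; norm_num at this
  have h1w : ¬ IsConj 1 w := fun h => by have := ho h; rw [hw, orderOf_one] at this; norm_num at this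
  have n1x : (1 : Spor.J2) ≠ x := fun h => h1x (h ▸ IsConj.refl _)
  have n1x2 : (1 : Spor.J2) ≠ x ^ 2 := fun h => h1x2 (h ▸ IsConj.refl _)
  have n1w : (1 : Spor.J2) ≠ w := fun h => h1w (h ▸ IsConj.refl _)
  have nxx : x ≠ x ^ 2 := fun h => hxx (h ▸ IsConj.refl _)
  have nxw : x ≠ w := fun h => hxw (h ▸ IsConj.refl _)
  have nx2w : x ^ 2 ≠ w := fun h => hxw2 (h ▸ IsConj.refl _)
  have h1 := Cfsg.Agent.H634.TwoA.sum_rank_le hM ({1, x, x ^ 2, w} : Finset Spor.J2) ?_ ?_
  · rw [Finset.sum_insert, Finset.sum_insert, Finset.sum_insert, Finset.sum_singleton] at h1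
    · have r1 : 2 ≤ blockRank 5 (principalBlock M ↥(centralizer ({1} : Set Spor.J2))) := by
        refine two_le_rank hM fun h => hn ?_
        let g : ↥(centralizer ({x} : Set Spor.J2)) →* ↥(centralizer ({1} : Set Spor.J2)) :=
          Subgroup.inclusion (fun c _ => by
            rw [mem_centralizer_singleton_iff, mul_one, one_mul])
        exact Cfsg.Agent.H634.ZJ.hasNormalPComplement_of_injective g (Subgroup.inclusion_injective _) h
      have r2 : 2 ≤ blockRank 5 (principalBlock M ↥(centralizer ({x} : Set Spor.J2))) := two_le_rank hM hn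
      have r3 : 2 ≤ blockRank 5 (principalBlock M ↥(centralizer ({x ^ 2} : Set Spor.J2))) :=
        two_le_rank hM (by rw [hC2]; exact hn)
      have r4 : 1 ≤ blockRank 5 (principalBlock M ↥(centralizer ({w} : Set Spor.J2))) := by
        have := Fintype.ofFinite ↥(centralizer ({w} : Set Spor.J2))
        exact Cfsg.Agent.H634.Cols.blockRank_pos hM
      omega
    · simpa using nx2w
    · simp only [Finset.mem_insert, Finset.mem_singleton, not_or]
      exact ⟨nxx, nxw⟩
    · simp only [Finset.mem_insert, Finset.mem_singleton, not_or]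
      exact ⟨n1x, n1x2, n1w⟩
  · intro y hy
    simp only [Finset.mem_insert, Finset.mem_singleton] at hy
    rcases hy with rfl | rfl | rfl | rfl
    · exact ⟨0, by simp⟩
    · exact ⟨1, by rw [hx, pow_one]⟩
    · exact ⟨1, by rw [o2, pow_one]⟩
    · exact ⟨1, by rw [hw, pow_one]⟩
  · intro a ha b hb hab
    simp only [Finset.mem_insert, Finset.mem_singleton] at ha hb
    rcases ha with rfl | rfl | rfl | rfl <;> rcases hb with rfl | rfl | rfl | rfl <;>
      [rfl; exact absurd hab h1x; exact absurd hab h1x2; exact absurd hab h1w; exact absurd hab.symm h1x; rfl; exact absurd hab hxx; exact absurd hab hxw;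
       exact absurd hab.symm h1x2; exact absurd hab.symm hxx; rfl; exact absurd hab hxw2; exact absurd hab.symm h1w; exact absurd hab.symm hxw;
       exact absurd hab.symm hxw2; rfl]

section inv63

open Cfsg.Agent.SporadicA.J2Hundred Cfsg.Agent.H221.DS.JTwoTen Cfsg.Agent.Characters.Core
  Cfsg.Agent.H690.Spor.RankThree

/-- the twist of a character by an automorphism -/
def tw {S : Type*} [Group S] [Finite S] (b : MulAut S) (χ : IrrCharacter S) : IrrCharacter S :=
  ⟨(χ : S → ℂ) ∘ b.toMonoidHom, isIrr_comp b.toMonoidHom b.surjective χ.2⟩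

theorem tw_apply {S : Type*} [Group S] [Finite S] (b : MulAut S) (χ : IrrCharacter S) (s : S) :
    (tw b χ : S → ℂ) s = (χ : S → ℂ) (b s) := rfl

theorem charDegree_tw {S : Type*} [Group S] [Finite S] (b : MulAut S) (χ : IrrCharacter S) :
    charDegree (tw b χ : S → ℂ) = charDegree (χ : S → ℂ) := by
  unfold charDegree
  rw [tw_apply, map_one]

/-- two sums of irreducible characters with the same values -/
theorem tw_eq {S : Type u} [Group S] [Finite S] (b : MulAut S) {χ ψ : IrrCharacter S}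
    (hne : charDegree (χ : S → ℂ) ≠ charDegree (ψ : S → ℂ))
    (h : ∀ s, (χ : S → ℂ) (b s) + (ψ : S → ℂ) (b s) = (χ : S → ℂ) s + (ψ : S → ℂ) s) : tw b χ = χ := by
  classical
  have := Fintype.ofFinite S
  by_contra hcon
  have h1 : ((tw b χ : IrrCharacter S) : S → ℂ) + ((tw b ψ : IrrCharacter S) : S → ℂ) = (χ : S → ℂ) + (ψ : S → ℂ) := by
    funext s
    exact h s
  have h2 : classInner (((tw b χ : IrrCharacter S) : S → ℂ) + ((tw b ψ : IrrCharacter S) : S → ℂ)) (χ : S → ℂ) = 0 := by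
    rw [classInner_add_left, classInner_irr_ne (tw b χ).2 χ.2 (fun e => hcon (Subtype.ext e)),
      classInner_irr_ne (tw b ψ).2 χ.2 (fun e => hne (by rw [← charDegree_tw b ψ, e])), add_zero]
  rw [h1, classInner_add_left, classInner_irr_self χ.2,
    classInner_irr_ne ψ.2 χ.2 (fun e => hne (by rw [e])), add_zero] at h2
  exact one_ne_zero h2

/-- **An invariant character of degree 63.** -/
theorem exists_63 : ∃ χ : IrrCharacter Spor.J2, charDegree (χ : Spor.J2 → ℂ) = 63 ∧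
    ∀ (σ : MulAut Spor.J2) (x : Spor.J2), (χ : Spor.J2 → ℂ) (σ x) = (χ : Spor.J2 → ℂ) x := by
  classical
  obtain ⟨E⟩ := J2.HundredGens.J2_iso Cfsg.Agent.S1619.result.2.2.2
  let : MulAction Spor.J2 (Fin 100) := MulAction.compHom (Fin 100) ((G.subtype).comp E.toMonoidHom)
  have hE : ∀ a : Spor.J2, MulAction.toPermHom Spor.J2 (Fin 100) a = (E a : Perm (Fin 100)) := by
    intro a
    ext x
    rfl
  have hsm : ∀ (a : Spor.J2) (x : Fin 100), a • x = (E a : Perm (Fin 100)) x := fun a x => rfl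
  obtain ⟨R, hR⟩ := rank3 (A := Spor.J2) (fun a => by
    rw [hE, ← ph_conj]
    exact pf_mem _) (fun g hg => ⟨E.symm ⟨g, hg⟩, by rw [hE, MulEquiv.apply_symm_apply]⟩)
  obtain ⟨χ₁, χ₂, a, b, D, h1, h2, h0, h3, h4, h5⟩ := hR.frame
  have hd1 : charDegree (χ₁ : Spor.J2 → ℂ) = a := Cfsg.Agent.Blocks.Basic.charDegree_of_eq h1
  have hd2 : charDegree (χ₂ : Spor.J2 → ℂ) = b := Cfsg.Agent.Blocks.Basic.charDegree_of_eq h2
  have hne : a ≠ b := by omega
  have hfix : ∀ (β : MulAut Spor.J2) (s : Spor.J2), Nat.card (MulAction.fixedBy (Fin 100) (β s)) =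
      Nat.card (MulAction.fixedBy (Fin 100) s) := by
    intro β s
    have key : (E (β s) : Perm (Fin 100)) = pf (MulAut.congr E β) * (E s : Perm (Fin 100)) *
        (pf (MulAut.congr E β))⁻¹ := by
      rw [← pf_spec]
      simp [MulAut.congr]
    set π := pf (MulAut.congr E β) with hπ
    refine Nat.card_congr ⟨fun x => ⟨π⁻¹ x.1, ?_⟩, fun x => ⟨π x.1, ?_⟩, fun x => ?_, fun x => ?_⟩
    · have hx := x.2
      rw [MulAction.mem_fixedBy, hsm, key] at hx
      rw [MulAction.mem_fixedBy, hsm]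
      have h6 := congrArg (π⁻¹ : Perm (Fin 100)) hx
      simpa [Perm.mul_apply] using h6
    · have hx := x.2
      rw [MulAction.mem_fixedBy, hsm] at hx
      rw [MulAction.mem_fixedBy, hsm, key]
      have h6 : (π⁻¹ : Perm (Fin 100)) (π x.1) = x.1 := Equiv.symm_apply_apply π x.1
      simp only [Perm.mul_apply]
      rw [h6, hx]
    · exact Subtype.ext (by simp)
    · exact Subtype.ext (by simp)
  have hsum : ∀ (β : MulAut Spor.J2) (s : Spor.J2),
      (χ₁ : Spor.J2 → ℂ) (β s) + (χ₂ : Spor.J2 → ℂ) (β s) = (χ₁ : Spor.J2 → ℂ) s + (χ₂ : Spor.J2 → ℂ) s := by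
    intro β s
    have h6 := h0 (β s)
    rw [hfix, h0 s] at h6
    linear_combination -h6
  rcases arith h3 h4 h5 with h6 | h6
  · refine ⟨χ₁, by rw [hd1, h6], fun β s => ?_⟩
    have h7 := tw_eq β (by rw [hd1, hd2]; exact hne) (hsum β)
    rw [← tw_apply, h7]
  · refine ⟨χ₂, by rw [hd2, h6], fun β s => ?_⟩
    have h7 := tw_eq β (χ := χ₂) (ψ := χ₁) (by rw [hd1, hd2]; exact hne.symm)
      (fun s => by rw [add_comm, hsum β s, add_comm])
    rw [← tw_apply, h7]

end inv63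

theorem ext_j2 : H668.K6.ExtK.{u, 0} 5 Spor.J2 := by
  have h5 : Fact (Nat.Prime 5) := ⟨by norm_num⟩
  refine ExtK.of_inv ?_ fun M hM => ?_
  · have hout : (MulAut.conj : Spor.J2 →* MulAut Spor.J2).range.index = 2 := Cfsg.Agent.S2066.result
    rw [hout]
    norm_num
  · obtain ⟨c, hc, hinv⟩ := exists_63
    refine ⟨c, mem_of_degree hM cp c (by rw [hc]; norm_num), hinv, 1, ?_⟩
    rw [Blocks.Basic.irr_one_eq_charDegree c.2, hc]
    norm_num

/-- **The Hall-Janko group, `p = 5`.** -/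
theorem row_j2 {S : Type v} [Group S] (h : Spor.IsoJ2 S) : KRow.{u, v} 5 S := by
  obtain ⟨e⟩ := h
  exact KRow.congr e.symm (H668.K6.KRow.of_ext ext_j2 seven)

end Cfsg.Agent.H629.K6.JTwo
end
end
end
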